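import Mathlib

/-!
# Endomorphisms annihilated by an irreducible cubic (helper244)
-/

set_option autoImplicit false

namespace Cfsg.Agent.H244.G2S

open Module Polynomial

variable {F : Type*} [Field F] {V : Type*} [AddCommGroup V] [Module F V] [FiniteDimensional F V]

theorem natDegree_dvd_finrank {f : F[X]} (hf : Irreducible f) (T : Module.End F V) (hT : aeval T f = 0) :
    f.natDegree ∣ finrank F V := by
  have : Fact (Irreducible f) := ⟨hf⟩
  let φ : AdjoinRoot f →+* Module.End F V := Ideal.Quotient.lift _ (aeval T : F[X] →ₐ[F] Module.End F V).toRingHom (by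
    intro g hg
    obtain ⟨c, rfl⟩ := Ideal.mem_span_singleton'.1 hg
    change aeval T (c * f) = 0
    rw [map_mul, hT, mul_zero])
  have hφ : ∀ g : F[X], φ (AdjoinRoot.mk f g) = aeval T g := fun g => rfl
  letI : Module (AdjoinRoot f) V := Module.compHom V φ
  have hsm : ∀ (a : AdjoinRoot f) (v : V), a • v = φ a v := fun a v => rfl
  haveI : IsScalarTower F (AdjoinRoot f) V := by
    refine ⟨fun c a v => ?_⟩
    rw [hsm, hsm, Algebra.smul_def, map_mul, AdjoinRoot.algebraMap_eq, ← AdjoinRoot.mk_C, hφ, aeval_C,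
      Module.End.mul_apply, Module.algebraMap_end_apply]
  have h1 := Module.finrank_mul_finrank F (AdjoinRoot f) V
  rw [← h1]
  have h2 : finrank F (AdjoinRoot f) = f.natDegree := (AdjoinRoot.powerBasis hf.ne_zero).finrank
  rw [h2]
  exact dvd_mul_right _ _

theorem natDegree_dvd_finrank' {f : F[X]} (hf : Irreducible f) (T : Module.End F V) (hT : aeval T f = 0)
    (X : Submodule F V) (hX : ∀ x ∈ X, T x ∈ X) : f.natDegree ∣ finrank F X := by
  apply natDegree_dvd_finrank hf (T.restrict hX)
  have h1 : ∀ (g : F[X]) (x : X), ((aeval (T.restrict hX) g x : X) : V) = aeval T g (x : V) := by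
    intro g
    induction g using Polynomial.induction_on' with
    | add a b ha hb =>
      intro x
      rw [map_add, map_add, LinearMap.add_apply, LinearMap.add_apply, Submodule.coe_add, ha, hb]
    | monomial n c =>
      intro x
      rw [aeval_monomial, aeval_monomial, Module.End.mul_apply, Module.End.mul_apply, Module.algebraMap_end_apply,
        Module.algebraMap_end_apply, Submodule.coe_smul]
      congr 1
      induction n generalizing x with
      | zero => rfl
      | succ n ih =>
        rw [pow_succ, pow_succ, Module.End.mul_apply, Module.End.mul_apply, ih]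
        rfl
  apply LinearMap.ext
  intro x
  apply Subtype.ext
  rw [h1, hT]
  rfl

/-- the commutant is closed under polynomials -/
theorem aeval_comm {T g : Module.End F V} (h : ∀ y, T (g y) = g (T y)) (f : F[X]) (y : V) :
    aeval T f (g y) = g (aeval T f y) := by
  induction f using Polynomial.induction_on' generalizing y with
  | add a b ha hb => rw [map_add, LinearMap.add_apply, LinearMap.add_apply, map_add, ha, hb]
  | monomial n c =>
    rw [aeval_monomial, Module.End.mul_apply, Module.End.mul_apply, Module.algebraMap_end_apply,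
      Module.algebraMap_end_apply, map_smul]
    congr 1
    induction n generalizing y with
    | zero => rfl
    | succ n ih => rw [pow_succ, Module.End.mul_apply, Module.End.mul_apply, h, ih]

/-! ### nilpotent elements commuting with `T` -/

section nil

variable (hV : finrank F V = 6) {T : Module.End F V}
  (hdvd : ∀ X : Submodule F V, (∀ x ∈ X, T x ∈ X) → 3 ∣ finrank F X)
include hV hdvd

theorem nil_ker {N : Module.End F V} (h0 : N ≠ 0) (hN : ∀ x, N (N x) = 0) (hT : ∀ x, T (N x) = N (T x)) :
    finrank F (LinearMap.ker N) = 3 ∧ ∀ x, N x ∈ LinearMap.ker N := by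
  have h1 : ∀ x, N x ∈ LinearMap.ker N := fun x => LinearMap.mem_ker.2 (hN x)
  have h2 : LinearMap.range N ≤ LinearMap.ker N := by
    rintro _ ⟨x, rfl⟩
    exact h1 x
  have h3 := LinearMap.finrank_range_add_finrank_ker N
  have h4 := Submodule.finrank_mono h2
  have h5 := hdvd (LinearMap.ker N) (by
    intro x hx
    rw [LinearMap.mem_ker] at hx ⊢
    rw [← hT, hx, map_zero])
  have h6 : finrank F (LinearMap.range N) ≠ 0 := by
    intro h7
    apply h0
    have h8 := Submodule.finrank_eq_zero.1 h7
    exact LinearMap.range_eq_bot.1 h8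
  refine ⟨?_, h1⟩
  rw [hV] at h3
  omega

/-- two commuting nilpotent elements have the same kernel -/
theorem ker_eq {N N' : Module.End F V} (h0 : N ≠ 0) (hN : ∀ x, N (N x) = 0) (hT : ∀ x, T (N x) = N (T x))
    (h0' : N' ≠ 0) (hN' : ∀ x, N' (N' x) = 0) (hT' : ∀ x, T (N' x) = N' (T x)) (hc : ∀ x, N (N' x) = N' (N x)) :
    LinearMap.ker N = LinearMap.ker N' := by
  obtain ⟨h1, -⟩ := nil_ker hV hdvd h0 hN hT
  obtain ⟨h2, -⟩ := nil_ker hV hdvd h0' hN' hT'
  have h3 : ∀ x ∈ LinearMap.ker N ⊓ LinearMap.ker N', T x ∈ LinearMap.ker N ⊓ LinearMap.ker N' := by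
    rintro x ⟨hx, hx'⟩
    refine ⟨?_, ?_⟩
    · rw [SetLike.mem_coe, LinearMap.mem_ker] at hx ⊢
      rw [← hT, hx, map_zero]
    · rw [SetLike.mem_coe, LinearMap.mem_ker] at hx' ⊢
      rw [← hT', hx', map_zero]
  have h4 := hdvd _ h3
  have h5 : finrank F ↥(LinearMap.ker N ⊓ LinearMap.ker N') ≠ 0 := by
    intro h6
    have h7 := Submodule.finrank_eq_zero.1 h6
    have h8 : LinearMap.ker N' = ⊥ := by
      rw [eq_bot_iff]
      intro v hv
      rw [LinearMap.mem_ker] at hv
      have h9 : N v ∈ LinearMap.ker N ⊓ LinearMap.ker N' := by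
        refine ⟨LinearMap.mem_ker.2 (hN v), LinearMap.mem_ker.2 ?_⟩
        rw [← hc, hv, map_zero]
      rw [h7, Submodule.mem_bot] at h9
      have h10 : v ∈ LinearMap.ker N ⊓ LinearMap.ker N' := ⟨LinearMap.mem_ker.2 h9, LinearMap.mem_ker.2 hv⟩
      rwa [h7] at h10
    rw [h8, finrank_bot] at h2
    omega
  have h6 : finrank F ↥(LinearMap.ker N ⊓ LinearMap.ker N') ≤ finrank F (LinearMap.ker N) :=
    Submodule.finrank_mono inf_le_left
  have h7 : finrank F ↥(LinearMap.ker N ⊓ LinearMap.ker N') = 3 := by omega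
  have h8 := Submodule.eq_of_le_of_finrank_eq (inf_le_left : LinearMap.ker N ⊓ LinearMap.ker N' ≤ LinearMap.ker N)
    (by rw [h7, h1])
  have h9 := Submodule.eq_of_le_of_finrank_eq (inf_le_right : LinearMap.ker N ⊓ LinearMap.ker N' ≤ LinearMap.ker N')
    (by rw [h7, h2])
  rw [← h8]
  exact h9

/-- **involutions in a commuting chain commute** -/
theorem comm_of_chain (h2 : (2 : F) = 0) {a b z : Module.End F V} (ha : a * a = 1) (hb : b * b = 1) (hz : z * z = 1)
    (ha1 : a ≠ 1) (hb1 : b ≠ 1) (hz1 : z ≠ 1) (haz : a * z = z * a) (hbz : b * z = z * b)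
    (hTa : T * a = a * T) (hTb : T * b = b * T) (hTz : T * z = z * T) : a * b = b * a := by
  have hneg : ∀ x : V, x + x = 0 := by
    intro x
    rw [← two_smul F x, h2, zero_smul]
  have key : ∀ {g : Module.End F V}, g * g = 1 → g ≠ 1 → T * g = g * T → g - 1 ≠ 0 ∧
      (∀ x, (g - 1) ((g - 1) x) = 0) ∧ ∀ x, T ((g - 1) x) = (g - 1) (T x) := by
    intro g hg hg1 hTg
    refine ⟨sub_ne_zero.2 hg1, fun x => ?_, fun x => ?_⟩
    · have h1 : g (g x) = x := by rw [← Module.End.mul_apply, hg]; rfl
      simp only [LinearMap.sub_apply, Module.End.one_apply, map_sub, h1]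
      have h3 := hneg (g x)
      have h4 := hneg x
      have e1 : x - g x - (g x - x) = (x + x) - (g x + g x) := by abel
      rw [e1, h3, h4, sub_zero]
    · have h1 : T (g x) = g (T x) := by rw [← Module.End.mul_apply, hTg]; rfl
      simp only [LinearMap.sub_apply, Module.End.one_apply, map_sub, h1]
  obtain ⟨a1, a2, a3⟩ := key ha ha1 hTa
  obtain ⟨b1, b2, b3⟩ := key hb hb1 hTb
  obtain ⟨z1, z2, z3⟩ := key hz hz1 hTz
  have hcomm : ∀ {g h : Module.End F V}, g * h = h * g → ∀ x, (g - 1) ((h - 1) x) = (h - 1) ((g - 1) x) := by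
    intro g h hgh x
    have h1 : (g - 1) * (h - 1) = (h - 1) * (g - 1) := by
      simp only [sub_mul, mul_sub, one_mul, mul_one, hgh]
      abel
    exact congrArg (fun f : Module.End F V => f x) h1
  have k1 := ker_eq hV hdvd a1 a2 a3 z1 z2 z3 (hcomm haz)
  have k2 := ker_eq hV hdvd b1 b2 b3 z1 z2 z3 (hcomm hbz)
  have k3 : LinearMap.ker (a - 1) = LinearMap.ker (b - 1) := by rw [k1, k2]
  have m1 : (a - 1) * (b - 1) = 0 := by
    apply LinearMap.ext
    intro x
    have := (nil_ker hV hdvd b1 b2 b3).2 x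
    rw [← k3] at this
    exact LinearMap.mem_ker.1 this
  have m2 : (b - 1) * (a - 1) = 0 := by
    apply LinearMap.ext
    intro x
    have := (nil_ker hV hdvd a1 a2 a3).2 x
    rw [k3] at this
    exact LinearMap.mem_ker.1 this
  have m3 : (a - 1) * (b - 1) - (b - 1) * (a - 1) = a * b - b * a := by
    simp only [sub_mul, mul_sub, one_mul, mul_one]
    abel
  rw [m1, m2, sub_zero] at m3
  exact (sub_eq_zero.1 m3.symm)

end nil

end Cfsg.Agent.H244.G2S
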