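import Cfsg.Agent.H911.AdPSL

/-!
# `SL(3, E)` in the defining characteristic: self-dual absolutely irreducible representations of degree `2 ≤ n ≤ 11`,
`p ≠ 3`, have degree 8 (helper244, after H911.Ad.psl3_model)
-/

set_option autoImplicit false
set_option linter.unusedSectionVars false
set_option linter.unusedVariables false

namespace Cfsg.Agent.H244.G2S

open Matrix CoxeterSystem Cfsg.Agent.ChevalleyStructure.CoxeterGeom Cfsg.Agent.Tits.Roots Cfsg.Agent.Tits.Core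
  Cfsg.Agent.Tits.Exchange Cfsg.Agent.Nodes.Reps Cfsg.Agent.Nodes.BNOf Cfsg.Agent.Nodes.StabComb
  Cfsg.Agent.Nodes.Bruhat Cfsg.Agent.Nodes.OppDec Cfsg.Agent.Nodes.LeviDec Cfsg.Agent.KFacts.RgdOpp
  Cfsg.Agent.Omega.CR Cfsg.Agent.Omega.FOne.Lift.Sd Cfsg.Agent.Nodes.RootsA Cfsg.Agent.H911 Cfsg.Agent.H905.Md
  Cfsg.Agent.H911.Ad
open Cfsg Cfsg.Geo Cfsg.Agent.H915.LD
open Cfsg.Agent.H911.SLTwo (U Lo hh ww hh00 hh01 hh10 hh11)
open Cfsg.Agent.LieRecognition.BNCox (cA cA_apply)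
open Cfsg.Agent.Nodes.RGDTypeA (Mono mem_T rgd)
open scoped MatrixGroups Matrix

variable {F : Type*} [Field F] [Finite F] {ι : Type} [Fintype ι] [DecidableEq ι]
  {E : Type*} [Field E] [Finite E] (p : ℕ) [hp : Fact p.Prime] [hFp : CharP F p] [hEp : CharP E p]
include hp hFp hEp

/-- **The degree is 8.** -/
theorem deg_psl3 (h3 : (3 : F) ≠ 0) (φ : SpecialLinearGroup (Fin 3) E →* GL ι F)
    (hP : ActsAbsolutelyIrreducibly (matrixSet φ.range))
    (B : (ι → F) →ₗ[F] (ι → F) →ₗ[F] F)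
    (hB : ∀ g x y, B ((φ g : Matrix ι ι F) *ᵥ x) ((φ g : Matrix ι ι F) *ᵥ y) = B x y)
    (hB0 : ∀ x, (∀ y, B x y = 0) → x = 0) (h2 : 2 ≤ Fintype.card ι) (hn : Fintype.card ι ≤ 11) :
    Fintype.card ι = 8 := by
  have hφ : φ.range = φ.range := rfl
  have hne : Nonempty ι := Fintype.card_pos_iff.1 (by omega)
  haveI : Finite (cA 2).Group := finite_W (cA 2).toCoxeterSystem (isCartan 2)
  have R := rgd (cA 2).toCoxeterSystem (isCartan 2) (F := E) (p := p)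
  have hG : GG (cA 2).toCoxeterSystem (isCartan 2) (Nodes.RGDTypeA.T (Fin 3) E) (Nodes.RGDTypeA.X E) = ⊤ :=
    gg_eq_top (Nodes.RGDTypeA.G1_eq_top _ _)
  have hirr := mrep_irr hφ hP hG
  obtain ⟨c, hc, hc0, χ, hχ⟩ := exists_chiF R hG slT_comm hφ hP
  have hB' : ∀ g x y, B (lin (mrep φ) g x) (lin (mrep φ) g y) = B x y := by
    intro g x y
    rw [mrep_apply, mrep_apply]
    exact hB g x y
  have hfr : Module.finrank F (ι → F) = Fintype.card ι := Module.finrank_fintype_fun_eq_card F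
  have hnt0 : Nontrivial (ι → F) := Module.nontrivial_of_finrank_pos (R := F) (by rw [hfr]; omega)
  obtain ⟨σ, hσ⟩ := exists_sigma3 p hirr hc hc0 hχ hB' hB0 (by omega) (by omega)
  have hJ := Jx_empty p hirr hc hc0 hχ hB' hB0 (by omega)
  have hnt : Nontrivial (Mo.M F) := ⟨⟨_, _, Mo.c₂_ne⟩⟩
  obtain ⟨θ, hθ⟩ := iso_of_chi_J R (lin (mrep φ)) (Mo.ad σ) hirr (Mo.mod_irr σ p) hc hc0 (Mo.c₂_mem σ p) Mo.c₂_ne hχ
    (fun t ht => by rw [Mo.ad_T σ ht, hσ t ht]) (fun i => ⟨fun hi => (hJ i hi).elim, fun hi => (Mo.not_mem_Jx σ p i hi).elim⟩)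
  have h8 := Mo.finrank_M (k := F) h3
  rw [← θ.finrank_eq, hfr] at h8
  exact h8

end Cfsg.Agent.H244.G2S
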