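import Cfsg.Agent.H244.G2S.Irr
import Cfsg.Agent.H244.G2S.Cub

/-!
# The images of `SL(3, E)` in the automorphism group of the octonions, characteristic two (helper244)
-/

set_option autoImplicit false

namespace Cfsg.Agent.H244.G2S

open Module Matrix Cfsg.Lie Cfsg.Agent.H161.Oct
open Cfsg Cfsg.Geo
open Cfsg.Agent.H436 (Prim)

section six

variable {F : Type*} [Field F] (h2 : (2 : F) = 0)

theorem inc_prj_of_W6 {x : V F} (hx : x ∈ W6 F) : inc6 F (prj6 F x) = x := by
  obtain ⟨h1, h2⟩ := hx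
  rw [inc6_apply, prj6_apply]
  apply ext8 <;> simp [h1, h2]

theorem inc6_mem (y : Fin 6 → F) : inc6 F y ∈ W6 F := by
  rw [mem_W6, inc6_apply]
  simp

theorem prj_inc6 (y : Fin 6 → F) : prj6 F (inc6 F y) = y := by
  rw [inc6_apply, prj6_apply]
  ext i; fin_cases i <;> rfl

theorem slM_mem_W6 (A : Matrix.SpecialLinearGroup (Fin 3) F) {x : V F} (hx : x ∈ W6 F) : slM F A x ∈ W6 F := by
  rw [← pE_eq_zero, pE_slM, pE_eq_zero]
  exact hx

variable [Finite F] {A : Matrix.SpecialLinearGroup (Fin 3) F} {r : ℕ} (h : Tor A r)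
include h

/-- an endomorphism commuting with the torus element stabilises the isotropic subspace -/
theorem stab_WA {T : Module.End F (Fin 6 → F)}
    (hT : ∀ y, T (prj6 F (slM F A (inc6 F y))) = prj6 F (slM F A (inc6 F (T y)))) (a : Fin 3 → F) :
    T (prj6 F (iA a)) = prj6 F (iA (pA F (inc6 F (T (prj6 F (iA a)))))) := by
  let φ : (Fin 3 → F) →ₗ[F] (Fin 3 → F) := pB F ∘ₗ inc6 F ∘ₗ T ∘ₗ prj6 F ∘ₗ iA
  have hφa : ∀ a, φ a = pB F (inc6 F (T (prj6 F (iA a)))) := fun a => rfl
  have hφ : ∀ a, φ (A.1 *ᵥ a) = cofM A *ᵥ φ a := by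
    intro a
    rw [hφa, ← slM_iA]
    have h1 := hT (prj6 F (iA a))
    rw [inc_prj_of_W6 (iA_mem_W6 a)] at h1
    rw [h1, inc_prj_of_W6 (slM_mem_W6 A (inc6_mem _)), pB_slM]
    rfl
  have hJ : LinearMap.toMatrix' φ = 0 := by
    apply no_form A.2 h.fixA h.irrA
    have h1 : LinearMap.toMatrix' φ * A.1 = cofM A * LinearMap.toMatrix' φ := by
      apply Matrix.toLin'.injective
      apply LinearMap.ext
      intro a
      rw [Matrix.toLin'_mul, Matrix.toLin'_mul, LinearMap.comp_apply, LinearMap.comp_apply,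
        Matrix.toLin'_toMatrix', Matrix.toLin'_apply, Matrix.toLin'_apply]
      exact hφ a
    rw [Matrix.mul_assoc, h1, ← Matrix.mul_assoc, cofM_mul, Matrix.one_mul]
  have hφ0 : φ = 0 := by
    apply LinearMap.toMatrix'.injective
    rw [hJ, map_zero]
  have h1 : pB F (inc6 F (T (prj6 F (iA a)))) = 0 := by rw [← hφa, hφ0]; rfl
  have h2 := eq_of_W6 (inc6_mem (T (prj6 F (iA a))))
  rw [h1, map_zero, add_zero] at h2
  conv_lhs => rw [← prj_inc6 (T (prj6 F (iA a))), h2]

end six

section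

variable {F : Type*} [Field F] [Finite F] (h2 : (2 : F) = 0)
  {A : Matrix.SpecialLinearGroup (Fin 3) F} {r : ℕ} (h : Tor A r) {K : Subgroup (V F ≃ₗ[F] V F)} (hK : K ≤ AutO F)
  (hs : slM F A ∈ K) (hns : ¬ Stb K (EE F)) {T : Module.End F (Fin 6 → F)}
  (hT : ∀ g ∈ K, ∀ y, T (prj6 F (g (inc6 F y))) = prj6 F (g (inc6 F (T y))))
include h2 h hK hs hns hT

/-- **the commutant is scalar, or the dimensions of the invariant subspaces are divisible by three** -/
theorem scalar_or : (∃ c : F, ∀ y, T y = c • y) ∨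
    ∀ X : Submodule F (Fin 6 → F), (∀ x ∈ X, T x ∈ X) → 3 ∣ finrank F X := by
  classical
  have hsc : ∀ {c : F} {v : Fin 6 → F}, v ≠ 0 → T v = c • v → ∀ y, T y = c • y :=
    fun hv hc y => (sub6 h2).scalar_of_eig hK h hs hns (T := T) hT hv hc y
  let ψ : Module.End F (Fin 3 → F) := pA F ∘ₗ inc6 F ∘ₗ T ∘ₗ prj6 F ∘ₗ iA
  have hψ : ∀ a, T (prj6 F (iA a)) = prj6 F (iA (ψ a)) := fun a => stab_WA h (hT _ hs) a
  have hinj : ∀ a : Fin 3 → F, a ≠ 0 → prj6 F (iA a) ≠ 0 := by
    intro a ha h0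
    apply ha
    have h1 := inc_prj_of_W6 (iA_mem_W6 a)
    rw [h0, map_zero] at h1
    rw [← pA_iA a, ← h1, map_zero]
  let f := ψ.charpoly
  have hfd : f.natDegree = 3 := by
    rw [LinearMap.charpoly_natDegree]
    simp
  have hfm : f.Monic := LinearMap.charpoly_monic ψ
  by_cases hirr : Irreducible f
  · right
    intro X hX
    rw [← hfd]
    apply natDegree_dvd_finrank' hirr T ?_ X hX
    have hψ' : ∀ (g : Polynomial F) a, Polynomial.aeval T g (prj6 F (iA a)) = prj6 F (iA (Polynomial.aeval ψ g a)) := by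
      intro g
      induction g using Polynomial.induction_on' with
      | add a b ha hb =>
        intro v
        rw [map_add, map_add, LinearMap.add_apply, LinearMap.add_apply, map_add, map_add, ha, hb]
      | monomial n c =>
        intro v
        rw [Polynomial.aeval_monomial, Polynomial.aeval_monomial, Module.End.mul_apply, Module.End.mul_apply,
          Module.algebraMap_end_apply, Module.algebraMap_end_apply, map_smul, map_smul]
        congr 1
        induction n generalizing v with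
        | zero => rfl
        | succ n ih => rw [pow_succ, pow_succ, Module.End.mul_apply, Module.End.mul_apply, hψ, ih]
    refine (sub6 h2).eq_zero_of_ker hK h hs hns ?_ (hinj (Pi.single 0 1) ?_) ?_
    · intro g hg y
      exact aeval_comm (T := T) (g := prj6 F ∘ₗ (g : V F →ₗ[F] V F) ∘ₗ inc6 F) (fun y => hT g hg y) f y
    · intro h0
      have := congrFun h0 0
      simp at this
    · rw [hψ', LinearMap.aeval_self_charpoly]
      simp
  · left
    rw [hfm.irreducible_iff_roots_eq_zero_of_degree_le_three (by rw [hfd]; norm_num) (by rw [hfd])] at hirr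
    obtain ⟨c, hc⟩ := Multiset.exists_mem_of_ne_zero hirr
    have hc' : f.IsRoot c := (Polynomial.mem_roots hfm.ne_zero).1 hc
    have h3 : Module.End.HasEigenvalue ψ c := (Module.End.hasEigenvalue_iff_isRoot_charpoly ψ c).2 hc'
    obtain ⟨v, hv⟩ := h3.exists_hasEigenvector
    have h4 : ψ v = c • v := hv.apply_eq_smul
    exact ⟨c, fun y => hsc (hinj v hv.2) (by rw [hψ, h4, map_smul, map_smul]) y⟩

end

/-! ### three elements of `SL(3, E)` -/

section mats

variable (E : Type*) [Field E]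

/-- the transvections -/
def ta : Matrix.SpecialLinearGroup (Fin 3) E := ⟨!![1, 1, 0; 0, 1, 0; 0, 0, 1], by simp [Matrix.det_fin_three]⟩
def tb : Matrix.SpecialLinearGroup (Fin 3) E := ⟨!![1, 0, 0; 0, 1, 1; 0, 0, 1], by simp [Matrix.det_fin_three]⟩
def tz : Matrix.SpecialLinearGroup (Fin 3) E := ⟨!![1, 0, 1; 0, 1, 0; 0, 0, 1], by simp [Matrix.det_fin_three]⟩
def tc : Matrix.SpecialLinearGroup (Fin 3) E := ⟨!![1, 0, 0; 0, 1, 0; 1, 0, 1], by simp [Matrix.det_fin_three]⟩

variable {E}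

theorem ta_coe : (ta E).1 = !![1, 1, 0; 0, 1, 0; 0, 0, 1] := rfl
theorem tb_coe : (tb E).1 = !![1, 0, 0; 0, 1, 1; 0, 0, 1] := rfl
theorem tz_coe : (tz E).1 = !![1, 0, 1; 0, 1, 0; 0, 0, 1] := rfl
theorem tc_coe : (tc E).1 = !![1, 0, 0; 0, 1, 0; 1, 0, 1] := rfl

theorem ta_mul_tb : ta E * tb E = tb E * ta E * tz E := by
  apply Subtype.ext
  change (ta E).1 * (tb E).1 = (tb E).1 * (ta E).1 * (tz E).1
  rw [ta_coe, tb_coe, tz_coe]
  ext i j
  fin_cases i <;> fin_cases j <;> simp [Matrix.mul_apply, Fin.sum_univ_three]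

theorem ta_mul_tz : ta E * tz E = tz E * ta E := by
  apply Subtype.ext
  change (ta E).1 * (tz E).1 = (tz E).1 * (ta E).1
  rw [ta_coe, tz_coe]
  ext i j
  fin_cases i <;> fin_cases j <;> simp [Matrix.mul_apply, Fin.sum_univ_three]

theorem tb_mul_tz : tb E * tz E = tz E * tb E := by
  apply Subtype.ext
  change (tb E).1 * (tz E).1 = (tz E).1 * (tb E).1
  rw [tb_coe, tz_coe]
  ext i j
  fin_cases i <;> fin_cases j <;> simp [Matrix.mul_apply, Fin.sum_univ_three]

theorem ta_sq (h2 : (2 : E) = 0) : ta E * ta E = 1 := by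
  have h3 : (1 : E) + 1 = 0 := by rw [← h2]; norm_num
  apply Subtype.ext
  change (ta E).1 * (ta E).1 = 1
  rw [ta_coe]
  ext i j
  fin_cases i <;> fin_cases j <;> simp [Matrix.mul_apply, Fin.sum_univ_three, h3]

theorem tb_sq (h2 : (2 : E) = 0) : tb E * tb E = 1 := by
  have h3 : (1 : E) + 1 = 0 := by rw [← h2]; norm_num
  apply Subtype.ext
  change (tb E).1 * (tb E).1 = 1
  rw [tb_coe]
  ext i j
  fin_cases i <;> fin_cases j <;> simp [Matrix.mul_apply, Fin.sum_univ_three, h3]

theorem tz_sq (h2 : (2 : E) = 0) : tz E * tz E = 1 := by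
  have h3 : (1 : E) + 1 = 0 := by rw [← h2]; norm_num
  apply Subtype.ext
  change (tz E).1 * (tz E).1 = 1
  rw [tz_coe]
  ext i j
  fin_cases i <;> fin_cases j <;> simp [Matrix.mul_apply, Fin.sum_univ_three, h3]

theorem tz_not_mem : tz E ∉ Subgroup.center (Matrix.SpecialLinearGroup (Fin 3) E) := by
  intro h
  have h1 := Subgroup.mem_center_iff.1 h (tc E)
  have h2 : ((tc E).1 * (tz E).1) 0 0 = ((tz E).1 * (tc E).1) 0 0 :=
    congrArg (fun g : Matrix.SpecialLinearGroup (Fin 3) E => g.1 0 0) h1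
  rw [tc_coe, tz_coe] at h2
  simp [Matrix.mul_apply, Fin.sum_univ_three] at h2

theorem tz_ne : tz E ≠ 1 := by
  intro h
  exact tz_not_mem (by rw [h]; exact Subgroup.one_mem _)

theorem ta_not_mem : ta E ∉ Subgroup.center (Matrix.SpecialLinearGroup (Fin 3) E) := by
  intro h
  have h1 := Subgroup.mem_center_iff.1 h (tb E)
  have h2 := @ta_mul_tb E _
  rw [h1] at h2
  exact tz_ne (mul_left_cancel (a := ta E * tb E) (by rw [mul_one]; exact h2.symm))

theorem tb_not_mem : tb E ∉ Subgroup.center (Matrix.SpecialLinearGroup (Fin 3) E) := by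
  intro h
  have h1 := Subgroup.mem_center_iff.1 h (ta E)
  have h2 := @ta_mul_tb E _
  rw [h1] at h2
  exact tz_ne (mul_left_cancel (a := tb E * ta E) (by rw [mul_one]; exact h2.symm))

end mats

section

variable {F : Type*} [Field F] [Finite F] {E : Type*} [Field E] [Finite E] [hFp : CharP F 2] [hEp : CharP E 2]
  {A : Matrix.SpecialLinearGroup (Fin 3) F} {r : ℕ} (h : Tor A r)
  (φ : Matrix.SpecialLinearGroup (Fin 3) E →* AutO F) (hs : ∃ g, ((φ g : AutO F) : V F ≃ₗ[F] V F) = slM F A)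
  (hns : ¬ ∀ g, ∀ x ∈ EE F, ((φ g : AutO F) : V F ≃ₗ[F] V F) x ∈ EE F)
include hFp hEp h hs hns

/-- **characteristic two** -/
theorem false_of_even [IsSimpleGroup φ.range]
    (hker : φ.ker ≤ Subgroup.center (Matrix.SpecialLinearGroup (Fin 3) E)) : False := by
  have h2 : (2 : F) = 0 := by exact_mod_cast CharP.cast_eq_zero F 2
  have h2E : (2 : E) = 0 := by exact_mod_cast CharP.cast_eq_zero E 2
  have h3 : (3 : F) ≠ 0 := by
    have h4 : (3 : F) = 1 := by linear_combination h2
    rw [h4]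
    exact one_ne_zero
  have hs' : slM F A ∈ SubQ.img φ := by
    obtain ⟨g, hg⟩ := hs
    rw [← hg]
    exact SubQ.mem_img φ g
  have hns' : ¬ Stb (SubQ.img φ) (EE F) := fun hh => hns fun g x hx => hh _ (SubQ.mem_img φ g) x hx
  set Q := sub6 h2
  have : Fact (Nat.Prime 2) := ⟨Nat.prime_two⟩
  have h8 := card_eq_eight 2 Q h φ hs hns h3 (by simp) (by simp) (by
    intro T hT
    refine (scalar_or h2 h (SubQ.img_le φ) hs' hns' hT).resolve_right fun hdvd => ?_
    -- the representation is faithful modulo the centre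
    let ρ : Matrix.SpecialLinearGroup (Fin 3) E →* Module.End F (Fin 6 → F) := Q.rho.comp φ
    have hρ : ∀ g, ρ g = 1 → g ∈ Subgroup.center (Matrix.SpecialLinearGroup (Fin 3) E) := by
      intro g hg
      apply hker
      have hN : (ρ.ker.map φ.rangeRestrict).Normal :=
        Subgroup.Normal.map (MonoidHom.normal_ker ρ) _ φ.rangeRestrict_surjective
      rcases hN.eq_bot_or_eq_top with h0 | h0
      · have h4 : φ.rangeRestrict g ∈ ρ.ker.map φ.rangeRestrict := ⟨g, hg, rfl⟩
        rw [h0, Subgroup.mem_bot] at h4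
        exact MonoidHom.mem_ker.2 (congrArg Subtype.val h4)
      · exfalso
        obtain ⟨g₀, hg₀⟩ := hs
        have h4 : φ.rangeRestrict g₀ ∈ ρ.ker.map φ.rangeRestrict := by rw [h0]; trivial
        obtain ⟨k, hk, hk'⟩ := h4
        have h5 : φ k = φ g₀ := congrArg Subtype.val hk'
        have h6 : Q.rho (φ g₀) = 1 := by
          rw [← h5]
          exact hk
        have h7 : ∀ v : Fin 3 → F, A.1 *ᵥ v = v := by
          intro v
          have h8 : Q.rho (φ g₀) (prj6 F (iA v)) = prj6 F (iA v) := by rw [h6]; rfl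
          rw [SubQ.rho_apply, hg₀] at h8
          change prj6 F (slM F A (inc6 F (prj6 F (iA v)))) = prj6 F (iA v) at h8
          rw [inc_prj_of_W6 (iA_mem_W6 v)] at h8
          have h9 := congrArg (inc6 F) h8
          rw [inc_prj_of_W6 (iA_mem_W6 v), inc_prj_of_W6 (slM_mem_W6 A (iA_mem_W6 v)), slM_iA] at h9
          exact iA_inj h9
        have h8 := h.fixA (Pi.single 0 1) (h7 _)
        have h9 := congrFun h8 0
        simp at h9
    have hTρ : ∀ g, T * ρ g = ρ g * T := by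
      intro g
      apply LinearMap.ext
      intro y
      exact hT _ (SubQ.mem_img φ g) y
    have h4 := comm_of_chain (F := F) (V := Fin 6 → F) (by simp) hdvd h2 (a := ρ (ta E)) (b := ρ (tb E)) (z := ρ (tz E))
      (by rw [← map_mul, ta_sq h2E, map_one]) (by rw [← map_mul, tb_sq h2E, map_one])
      (by rw [← map_mul, tz_sq h2E, map_one]) (fun h0 => ta_not_mem (hρ _ h0)) (fun h0 => tb_not_mem (hρ _ h0))
      (fun h0 => tz_not_mem (hρ _ h0)) (by rw [← map_mul, ta_mul_tz, map_mul]) (by rw [← map_mul, tb_mul_tz, map_mul])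
      (hTρ _) (hTρ _) (hTρ _)
    apply tz_not_mem (hρ (tz E) ?_)
    rw [← map_mul, ta_mul_tb, map_mul, map_mul] at h4
    have h5 : ρ (tb E * ta E)⁻¹ * (ρ (tb E) * ρ (ta E) * ρ (tz E)) = ρ (tb E * ta E)⁻¹ * (ρ (tb E) * ρ (ta E)) := by
      rw [h4]
    rw [← map_mul ρ (tb E) (ta E), ← mul_assoc, ← map_mul, inv_mul_cancel, map_one, one_mul] at h5
    exact h5)
  simp at h8

end

/-- **the second case, the irreducible part** -/
theorem stb_of_hom {F : Type*} [Field F] [Finite F] {E : Type*} [Field E] [Finite E] (p : ℕ) [hp : Fact p.Prime]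
    [hFp : CharP F p] [hEp : CharP E p] (h3 : (3 : F) ≠ 0) {A : Matrix.SpecialLinearGroup (Fin 3) F} {r : ℕ}
    (h : Tor A r) (φ : Matrix.SpecialLinearGroup (Fin 3) E →* AutO F)
    (hs : ∃ g, ((φ g : AutO F) : V F ≃ₗ[F] V F) = slM F A) [IsSimpleGroup φ.range]
    (hker : φ.ker ≤ Subgroup.center (Matrix.SpecialLinearGroup (Fin 3) E)) (g : Matrix.SpecialLinearGroup (Fin 3) E)
    (x : V F) (hx : x ∈ EE F) : ((φ g : AutO F) : V F ≃ₗ[F] V F) x ∈ EE F := by
  by_contra hns
  have hns' : ¬ ∀ g, ∀ x ∈ EE F, ((φ g : AutO F) : V F ≃ₗ[F] V F) x ∈ EE F := fun hh => hns (hh g x hx)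
  by_cases h2 : (2 : F) = 0
  · have h4 : p = 2 := by
      have h5 : ((2 : ℕ) : F) = 0 := by exact_mod_cast h2
      rw [CharP.cast_eq_zero_iff F p] at h5
      exact (Nat.prime_dvd_prime_iff_eq hp.out Nat.prime_two).1 h5
    subst h4
    exact false_of_even h φ hs hns' hker
  · exact false_of_odd p h φ hs hns' h3 h2

end Cfsg.Agent.H244.G2S
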