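import Cfsg.Agent.H244.G2S.FiveNum
import Cfsg.Agent.H244.G2S.Char3
import Cfsg.Agent.H244.G2S.RowA
import Cfsg.Agent.H983.ElG.KFin
import Cfsg.Agent.H420.G2U.Small

/-!
# Overgroups of the torus of order `q² + q + 1` of `G₂(q)`, `q ≥ 5`, `3 ∤ q` (helper244, after helper394)
-/

set_option autoImplicit false
set_option exponentiation.threshold 700

namespace Cfsg.Agent.H244.G2S

open Subgroup Cfsg Cfsg.Lie Cfsg.Agent Cfsg.Agent.OrdDiv Cfsg.Agent.H436 Cfsg.Agent.H902 Cfsg.Agent.H902.Names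
  Cfsg.Agent.H915.GN Cfsg.Agent.H290.ElReg Cfsg.Agent.H264.FKS Cfsg.Agent.H563.KG Cfsg.Agent.H56.Exc Cfsg.Agent.H56.Wei
open Cfsg.Agent.H983.KG2 Cfsg.Agent.H946.Num Cfsg.Agent.H946.Rad
open Cfsg.Agent.H394.Wei (cls1_three big_named_three trich cross_one mem_of_coprime_index)
open Cfsg.Agent.H420.G2U (no133 no273)

variable {p f : ℕ}

theorem prim_sq {q r : ℕ} (h : Prim q 3 r) : Prim (q ^ 2) 3 r :=
  ⟨h.prime, fun m => by rw [← pow_mul, h.dvd_iff]; omega, fun hd => h.not_dvd (h.prime.dvd_of_dvd_pow hd)⟩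

/-- `G₂(q)` in `G₂(q²)` -/
theorem kill_g2 {S : Type*} [Group S] [Finite S] {h : ℕ} (h3 : 3 ≤ p ^ h) (hS : IsNamed (.g2 (p ^ h)) S) {y : S}
    (hy : orderOf y = c3 ((p ^ h) ^ 2)) : False := by
  obtain ⟨r, hr⟩ := exists_prim (q := p ^ h) (e := 3) (by omega) le_rfl (by omega)
  have hb := big_named_three hS hr
  have hrk : r ∣ c3 ((p ^ h) ^ 2) := dvd_c3 (Nat.one_le_pow _ _ (by omega)) (prim_sq hr)
  have hk0 : c3 ((p ^ h) ^ 2) ≠ 0 := by
    intro h0
    have h1 := orderOf_pos y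
    omega
  obtain ⟨w, hw, hu⟩ : ∃ w : S, Commute y w ∧ orderOf w = r := by
    refine ⟨y ^ (c3 ((p ^ h) ^ 2) / r), Commute.pow_right (Commute.refl y) _, ?_⟩
    rw [orderOf_pow_of_dvd, hy, Nat.div_div_self hrk hk0]
    · exact (Nat.div_pos (Nat.le_of_dvd (Nat.pos_of_ne_zero hk0) hrk) hr.prime.pos).ne'
    · rw [hy]
      exact Nat.div_dvd_of_dvd hrk
  have h5 := hb.card _ hu
  have h6 : y ∈ Subgroup.centralizer ({w} : Set S) := by
    rw [Subgroup.mem_centralizer_singleton_iff]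
    exact hw.eq
  have h7 : c3 ((p ^ h) ^ 2) ∣ Nat.card ↥(Subgroup.centralizer ({w} : Set S)) := by
    rw [← hy, ← Subgroup.orderOf_mk y h6]
    exact orderOf_dvd_natCard _
  have h8 := Nat.le_of_dvd (by unfold N3; omega) (h7.trans h5)
  have h9 : N3 ((p ^ h) ^ 2) ≤ 3 * c3 ((p ^ h) ^ 2) := by
    rcases N3_cases ((p ^ h) ^ 2) with h | h <;> omega
  have h10 : N3 ((p ^ h) ^ 2) = ((p ^ h) ^ 2) ^ 2 + (p ^ h) ^ 2 + 1 := rfl
  have h11 : N3 (p ^ h) = (p ^ h) ^ 2 + p ^ h + 1 := rfl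
  rw [h11] at h8
  rw [h10] at h9
  generalize p ^ h = Q at *
  have h12 : 3 * Q ≤ Q ^ 2 := by nlinarith
  have h13 : 9 * Q ^ 2 ≤ (Q ^ 2) ^ 2 := by nlinarith
  omega

/-- **`G₂(q)`, `q ≥ 5`.** -/
theorem over3_five (hp : p.Prime) (hp3 : p ≠ 3) (hf : 1 ≤ f) (h5 : 5 ≤ p ^ f) {T : Type} [Group T] [Finite T]
    (hT : IsNamed (.g2 (p ^ f)) T) (x : T) (hx : orderOf x = (p ^ f) ^ 2 + p ^ f + 1) : Over3 (p ^ f) x := by
  have h3q : ¬ 3 ∣ p ^ f := fun h =>
    hp3 ((Nat.prime_dvd_prime_iff_eq Nat.prime_three hp).1 (Nat.prime_three.dvd_of_dvd_pow h)).symm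
  have D := dat_of hT hp hf
  have hC := cls1_three hp h5
  have hxN : orderOf x = N3 (p ^ f) := hx
  have h14 := hC.h14
  have hkN := c3_dvd (p ^ f)
  intro H hxH hH
  rcases trich D hC D.b3 D.iso hxN hxH with h | ⟨h3k, h⟩ | ⟨S, hSn, hSs, hSna, hSC, hkS, hS⟩
  · left
    refine ⟨x, mem_zpowers x, ?_, h⟩
    rintro rfl
    rw [orderOf_one] at hx
    omega
  · left
    refine ⟨x ^ c3 (p ^ f), pow_mem (mem_zpowers x) _, ?_, h⟩
    intro h1
    have h2 := Nat.le_of_dvd (by omega) (orderOf_dvd_of_pow_eq_one h1)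
    rw [hxN] at h2
    omega
  right
  obtain ⟨u, hu, huk⟩ := Nat.exists_prime_and_dvd (n := c3 (p ^ f)) (by omega)
  refine ⟨S, hSn, hSs, hSna, ⟨u, hC.prim_of u hu huk, (hS u hu huk).2.2⟩, ?_⟩
  have hSs' : IsSimpleGroup S := hSs
  have hna' : ¬ ∀ a b : S, a * b = b * a := fun h => hSna ⟨⟨h⟩⟩
  obtain ⟨g, hg⟩ := exists_named (S := S) Cfsg.Agent.OrdDiv.table Cfsg.Agent.S0000.result hna'
  have hd : Nat.card S ∣ OL .G2 (p ^ f) := by
    rw [← D.card]
    exact (Subgroup.card_subgroup_dvd_card S).trans (Subgroup.card_subgroup_dvd_card H)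
  have h1k : ∀ r, r.Prime → r ∣ c3 (p ^ f) → (r - 1) % 3 = 0 := fun r hr h => by
    have := mod_of_prim (by omega) (by norm_num) (hC.prim_of r hr h)
    omega
  have hxH' : orderOf (⟨x, hxH⟩ : H) = N3 (p ^ f) := by rw [Subgroup.orderOf_mk, hxN]
  rcases Cfsg.Agent.H192.Singer.cases_name hg.cond with ⟨m, rfl⟩ | hsp | ⟨l, hl, hch⟩
  · exfalso
    obtain ⟨Φ⟩ : Nonempty (S ≃* alternatingGroup (Fin m)) := hg.real
    exact alt_five Φ hkS h14 hC.seven fun r hr h => ⟨(hS r hr h).1, (hS r hr h).2.1⟩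
  · exfalso
    have h1 := Cfsg.Agent.H192.Singer.spor_mem hsp
    have h2 : Nat.card S = ordN g := hg.ord
    rw [h2] at hkS hd
    obtain ⟨h11, hj⟩ := spor_three h5 h3q h1 hkS hd
    have hj' : g = .j1 := hj
    subst hj'
    rw [h11] at hS hxH'
    exact no133 S hSC hSna hg (hS 19 (by norm_num) (by decide)).1 hxH'
  · by_cases hpl : p = l
    · subst hpl
      have hPI : ∀ r, Prim (p ^ f) 3 r → H325.Loc.PIso p r S := fun r hr => ((D.iso r hr).sub H).sub S
      rcases charp_g2_3 hp hf h5 hp3 hg.cond hch hg.eq (Cfsg.Agent.H264.FKS.IsNamed.card_dvd hT S)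
          (fun s hs => (hC.of_prim s hs).trans hkS) with h | h | h | ⟨h, rfl, h1 | h1⟩ | ⟨rfl, rfl, h1⟩
      · subst h
        exact hg.real
      · subst h
        exact absurd (eq_top_of_name hT hg) hH
      · subst h
        exact (H325.Same.kill_psl2 hp hg (hC.prim_of u hu huk) (hPI u (hC.prim_of u hu huk))).elim
      · exfalso
        subst h1
        have h0 : 3 ≤ p ^ h := by
          by_contra hcon
          have h2 : p ^ (2 * h) = (p ^ h) ^ 2 := by rw [← pow_mul, mul_comm]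
          have h3 : p ^ h ≤ 2 := by omega
          have h4 := Nat.pow_le_pow_left h3 2
          omega
        obtain ⟨r, hr⟩ := exists_prim (q := p ^ h) (e := 3) (by omega) le_rfl (by omega)
        have h2 : p ^ (2 * h) = (p ^ h) ^ 2 := by rw [← pow_mul, mul_comm]
        exact H325.Same.kill_psl2 hp hg hr (hPI r (h2 ▸ prim_sq hr))
      · exfalso
        subst h1
        have h2 : p ^ (2 * h) = (p ^ h) ^ 2 := by rw [← pow_mul, mul_comm]
        have h0 : 3 ≤ p ^ h := by
          by_contra hcon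
          have h3 : p ^ h ≤ 2 := by omega
          have h4 := Nat.pow_le_pow_left h3 2
          omega
        have hk0 : 0 < c3 (p ^ (2 * h)) := by omega
        have ho : orderOf (x ^ (N3 (p ^ (2 * h)) / c3 (p ^ (2 * h)))) = c3 (p ^ (2 * h)) := by
          have hN0 : 0 < N3 (p ^ (2 * h)) := by unfold N3; omega
          rw [orderOf_pow_of_dvd, hxN, Nat.div_div_self hkN hN0.ne']
          · exact (Nat.div_pos (Nat.le_of_dvd hN0 hkN) hk0).ne'
          · rw [hxN]
            exact Nat.div_dvd_of_dvd hkN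
        have hyS : (⟨x ^ (N3 (p ^ (2 * h)) / c3 (p ^ (2 * h))), H.pow_mem hxH _⟩ : H) ∈ S := by
          apply mem_of_coprime_index
          rw [Subgroup.orderOf_mk, ho]
          exact Nat.coprime_of_dvd fun r hr h1 h2 => (hS r hr h1).2.2 h2
        refine kill_g2 h0 hg (y := ⟨_, hyS⟩) ?_
        rw [Subgroup.orderOf_mk, Subgroup.orderOf_mk, ho, h2]
      · exfalso
        subst h1
        have p7 : Prim (2 ^ 4) 3 7 := prim_c3 (q := 2 ^ 4) (by norm_num) (by norm_num) (by decide)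
        exact H325.Same.kill_sz8 hg (hPI 7 p7)
    · exfalso
      obtain ⟨X, f₁, h1, h2, -⟩ := exists_lie hl hg hch
      obtain ⟨F, _, hcF, hFth⟩ := D.fth
      have hlF : (l : F) ≠ 0 := by
        intro h
        exact hpl ((Nat.prime_dvd_prime_iff_eq hp hl).1 ((CharP.cast_eq_zero_iff F p l).1 h))
      have h3 := lb_le hna' (by norm_num) ((hFth.sub H.subtype H.subtype_injective).sub S.subtype S.subtype_injective)
        h1 hg.real h2 hlF
      obtain ⟨h4, h5'⟩ := cross_one h2 h3 hkS h1k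
      rcases q_cases h5 h3q h4 h5' with h | h
      · have hp7 : p = 7 := (Nat.prime_dvd_prime_iff_eq hp (by norm_num)).1 (h ▸ dvd_pow_self p (by omega))
        rw [h] at hkS hd
        exact cross_seven h2 h3 (fun h => hpl (hp7.trans h.symm)) (dvd_trans (by decide) hkS) hd
      · have hp2 : p = 2 := by
          have h6 : p ∣ 2 ^ 4 := by
            have : p ∣ p ^ f := dvd_pow_self p (by omega)
            rw [h] at this
            exact this
          exact (Nat.prime_dvd_prime_iff_eq hp Nat.prime_two).1 (hp.dvd_of_dvd_pow h6)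
        rw [h] at hkS hd hS hxH'
        have hb13 := (hS 13 (by norm_num) (by decide)).1
        have hb7 := (hS 7 (by norm_num) (by decide)).1
        rcases cross_sixteen h2 h3 (fun h => hpl (hp2.trans h.symm)) (dvd_trans (by decide) hkS) hd with
          ⟨rfl, rfl, rfl⟩ | ⟨rfl, rfl, rfl⟩
        · have hgr : OrdDiv.Real (.psl 2 27) S := by
            have hgr := hg.real
            cases h1
            simpa using hgr
          obtain ⟨y, hy⟩ := psl27 hgr
          have hy2 : orderOf (y ^ 2) = 7 := by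
            rw [orderOf_pow' y (by norm_num), hy]
            decide
          have h5 := hb7.card (y ^ 2) hy2
          have h6 : y ∈ Subgroup.centralizer ({y ^ 2} : Set S) := by
            rw [Subgroup.mem_centralizer_singleton_iff]
            exact (Commute.pow_right (Commute.refl y) 2).eq
          have h7 : 2 * 7 ∣ Nat.card ↥(Subgroup.centralizer ({y ^ 2} : Set S)) := by
            rw [← hy, ← Subgroup.orderOf_mk y h6]
            exact orderOf_dvd_natCard _
          have h8 := h7.trans h5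
          revert h8
          decide
        · have hg' : IsNamed (.psl 2 13) S := by
            cases h1
            simpa using hg
          exact no273 S hSC hSna hg' hb13 hxH' (Or.inl rfl)

/-- **the row `G₂(q)`, `3 ∤ q`** -/
theorem row_g2 {q : ℕ} (h3 : ¬ 3 ∣ q) : Cfsg.Agent.H862.Spr.Row (.g2 q) :=
  row_of_five (fun hp hp3 hf h5 _ _ _ hT x hx => over3_five hp hp3 hf h5 hT x hx) h3

end Cfsg.Agent.H244.G2S
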