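import Cfsg.Agent.H244.G2S.Even
import Cfsg.Agent.H161.G2Emb
import Cfsg.Agent.H638.G2Iso
import Cfsg.Agent.H862.Spr.Rows

/-!
# 3/2-generation of `G₂(q)`, `3 ∤ q`, from the overgroups of the torus element of order `q² + q + 1` (helper244)
-/

set_option autoImplicit false

namespace Cfsg.Agent.H244.G2S

open Module Matrix Cfsg.Lie Cfsg.Agent.H161.Oct Subgroup
open Cfsg Cfsg.Geo Cfsg.Agent.OrdDiv
open Cfsg.Agent.H436 (Prim)
open Cfsg.Agent.H424.Spr (Spr spr_of_one)

/-- the overgroups of the torus element -/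
def Over3 {T : Type*} [Group T] (q : ℕ) (x : T) : Prop :=
  ∀ H : Subgroup T, x ∈ H → H ≠ ⊤ → (∃ y ∈ zpowers x, y ≠ 1 ∧ H ≤ normalizer (zpowers y : Set T)) ∨
    ∃ S : Subgroup H, S.Normal ∧ IsSimpleGroup S ∧ ¬ IsMulCommutative S ∧ (∃ r, Prim q 3 r ∧ ¬ r ∣ S.index) ∧
      Real (.psl 3 q) S

/-- an element of order `r` -/
theorem exists_tor {F : Type*} [Field F] [Finite F] {A : Matrix.SpecialLinearGroup (Fin 3) F}
    (hA : orderOf A = Nat.card F ^ 2 + Nat.card F + 1) {r : ℕ} (hr : Prim (Nat.card F) 3 r) :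
    ∃ n, Tor (A ^ n) r ∧ orderOf (A ^ n) = r := by
  set q := Nat.card F with hq
  have hq2 : 2 ≤ q := by
    have : Fintype F := Fintype.ofFinite F
    rw [hq, Nat.card_eq_fintype_card]
    exact Fintype.one_lt_card
  have h1 : r ∣ q ^ 2 + q + 1 := by
    have h2 := hr.dvd (m := 3) dvd_rfl
    have h3 : ∀ q : ℕ, 2 ≤ q → q ^ 3 - 1 = (q ^ 2 + q + 1) * (q - 1) := by
      intro q hq2
      obtain ⟨m, rfl⟩ : ∃ m, q = m + 1 := ⟨q - 1, by omega⟩
      rw [Nat.add_sub_cancel]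
      apply Nat.sub_eq_of_eq_add
      ring
    rw [h3 q hq2] at h2
    refine (hr.prime.dvd_mul.1 h2).resolve_right ?_
    have h4 := hr.not_dvd_sub (m := 1) (by norm_num)
    rwa [pow_one] at h4
  have hn : q ^ 2 + q + 1 ≠ 0 := by omega
  have h2 : orderOf (A ^ ((q ^ 2 + q + 1) / r)) = r := by
    rw [orderOf_pow_of_dvd, hA, Nat.div_div_self h1 hn]
    · exact (Nat.div_pos (Nat.le_of_dvd (by omega) h1) hr.prime.pos).ne'
    · rw [hA]
      exact Nat.div_dvd_of_dvd h1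
  refine ⟨(q ^ 2 + q + 1) / r, ⟨hr, ?_, ?_⟩, h2⟩
  · have h4 := pow_orderOf_eq_one (A ^ ((q ^ 2 + q + 1) / r))
    rwa [h2] at h4
  · intro h3
    rw [h3, orderOf_one] at h2
    exact hr.prime.one_lt.ne h2

section

variable {T : Type*} [Group T] {F : Type*} [Field F] [Finite F] (e : T ≃* AutO F)

/-- the map to the linear group -/
def emb : T →* (V F ≃ₗ[F] V F) := (AutO F).subtype.comp e.toMonoidHom

omit [Finite F] in
theorem emb_inj : Function.Injective (emb e) := fun x y hxy => e.injective (Subtype.ext hxy)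

omit [Finite F] in
theorem emb_mem (x : T) : emb e x ∈ AutO F := (e x).2

omit [Finite F] in
theorem map_le (H : Subgroup T) : H.map (emb e) ≤ AutO F := by
  rintro _ ⟨x, -, rfl⟩
  exact emb_mem e x

/-- the subgroup -/
def MT : Subgroup T := (MM F).comap (emb e)

omit [Finite F] in
theorem MT_ne_top : MT e ≠ ⊤ := by
  intro h
  apply not_AutO_le (F := F)
  intro g hg
  obtain ⟨x, hx⟩ := e.surjective ⟨g, hg⟩
  have h1 : x ∈ MT e := by rw [h]; trivial
  have h2 : emb e x = g := congrArg Subtype.val hx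
  rw [← h2]
  exact h1

omit [Finite F] in
theorem le_MT {H : Subgroup T} : H ≤ MT e ↔ Stb (H.map (emb e)) (EE F) := by
  rw [← le_MM, MT, ← Subgroup.map_le_iff_le_comap]

variable {p : ℕ} [hp : Fact p.Prime] [hFp : CharP F p] (h3 : (3 : F) ≠ 0)
  {A : Matrix.SpecialLinearGroup (Fin 3) F} (hA : orderOf A = Nat.card F ^ 2 + Nat.card F + 1)
  {x : T} (hx : emb e x = slM F A)
include hA hx

omit hFp hp in
theorem case_a {H : Subgroup T} {y : T} (hy : y ∈ zpowers x) (hy1 : y ≠ 1)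
    (hH : H ≤ normalizer (zpowers y : Set T)) (hq3 : ∃ r, Prim (Nat.card F) 3 r) : H ≤ MT e := by
  rw [le_MT]
  obtain ⟨r, hr⟩ := hq3
  obtain ⟨n, hn, -⟩ := exists_tor hA hr
  obtain ⟨j, rfl⟩ := mem_zpowers_iff.1 hy
  have hB : emb e (x ^ j) = slM F (A ^ j) := by rw [map_zpow, hx, map_zpow]
  refine stb_of_cyc hn (N := (zpowers (x ^ j)).map (emb e)) (B := A ^ j) ?_ ?_ ?_ ?_ ?_
  · rintro _ ⟨k, hk, rfl⟩ _ ⟨g, hg, rfl⟩
    refine ⟨k⁻¹ * g * k, ?_, by rw [map_mul, map_mul, map_inv]⟩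
    have h1 := (mem_normalizer_iff.1 (inv_mem (hH hk)) g).1 hg
    rwa [inv_inv] at h1
  · intro h0
    apply hy1
    apply emb_inj e
    rw [hB, h0, map_one, map_one]
  · exact ((Commute.refl A).pow_left n).zpow_right j
  · rw [← hB]
    exact ⟨x ^ j, mem_zpowers _, rfl⟩
  · rintro _ ⟨g, hg, rfl⟩
    obtain ⟨k, rfl⟩ := mem_zpowers_iff.1 hg
    exact ⟨(A ^ j) ^ k, by rw [map_zpow (emb e), hB, ← map_zpow]⟩

include hp hFp h3 in
theorem case_b {H : Subgroup T} (hxH : x ∈ H) {S : Subgroup H} (hSn : S.Normal) (hSs : IsSimpleGroup S)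
    (hna : ¬ IsMulCommutative S) {r : ℕ} (hr : Prim (Nat.card F) 3 r) (hi : ¬ r ∣ S.index)
    (hre : Real (.psl 3 (Nat.card F)) S) : H ≤ MT e := by
  rw [le_MT]
  obtain ⟨n, hn, hno⟩ := exists_tor hA hr
  have hfF : Fintype F := Fintype.ofFinite F
  obtain ⟨E, i1, i2, hE, ⟨f⟩⟩ := hre
  haveI : CharP E p := by
    obtain ⟨k, -, hk⟩ := FiniteField.card F p
    rw [Nat.card_eq_fintype_card] at hE
    rw [hk] at hE
    exact charP_of_card_eq_prime_pow hE
  -- the homomorphism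
  let φ₀ : Matrix.SpecialLinearGroup (Fin 3) E →* T :=
    (H.subtype.comp (S.subtype.comp f.symm.toMonoidHom)).comp
      (QuotientGroup.mk' (Subgroup.center (Matrix.SpecialLinearGroup (Fin 3) E)))
  have hφ₀ : ∀ g, φ₀ g = ((f.symm (QuotientGroup.mk g) : S) : H) := fun g => rfl
  let φ : Matrix.SpecialLinearGroup (Fin 3) E →* AutO F := e.toMonoidHom.comp φ₀
  have hφ : ∀ g, ((φ g : AutO F) : V F ≃ₗ[F] V F) = emb e (φ₀ g) := fun g => rfl
  have hsurj : ∀ s : S, ∃ g, φ₀ g = ((s : H) : T) := by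
    intro s
    obtain ⟨g, hg⟩ := QuotientGroup.mk_surjective (f s)
    refine ⟨g, ?_⟩
    rw [hφ₀]
    have h1 : f.symm (QuotientGroup.mk g) = s := by rw [f.symm_apply_eq]; exact hg
    rw [h1]
  have himg : ∀ g : V F ≃ₗ[F] V F, g ∈ SubQ.img φ ↔ ∃ s : S, emb e ((s : H) : T) = g := by
    intro g
    constructor
    · intro hg
      obtain ⟨y, rfl⟩ := SubQ.exists_of_mem_img φ hg
      exact ⟨f.symm (QuotientGroup.mk y), rfl⟩
    · rintro ⟨s, rfl⟩
      obtain ⟨y, hy⟩ := hsurj s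
      rw [← hy]
      exact SubQ.mem_img φ y
  -- the image is simple
  let ψ : S →* AutO F := e.toMonoidHom.comp (H.subtype.comp S.subtype)
  have hψi : Function.Injective ψ := by
    intro a b hab
    apply Subtype.ext
    apply Subtype.ext
    exact e.injective hab
  have hψr : ψ.range = φ.range := by
    ext g
    constructor
    · rintro ⟨s, rfl⟩
      obtain ⟨y, hy⟩ := hsurj s
      refine ⟨y, ?_⟩
      change e (φ₀ y) = e ((s : H) : T)
      rw [hy]
    · rintro ⟨y, rfl⟩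
      exact ⟨f.symm (QuotientGroup.mk y), rfl⟩
  have eS : S ≃* φ.range := (MonoidHom.ofInjective hψi).trans (MulEquiv.subgroupCongr hψr)
  haveI hsimp : IsSimpleGroup φ.range := eS.symm.isSimpleGroup
  have hker : φ.ker ≤ Subgroup.center (Matrix.SpecialLinearGroup (Fin 3) E) := by
    intro g hg
    have h1 : e (φ₀ g) = 1 := hg
    have h2 : φ₀ g = 1 := e.injective (by rw [h1, map_one])
    rw [hφ₀] at h2
    have h4 : f.symm (QuotientGroup.mk g) = 1 := Subtype.ext (Subtype.ext h2)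
    have h5 : (QuotientGroup.mk g : Matrix.ProjectiveSpecialLinearGroup (Fin 3) E) = 1 := by
      apply f.symm.injective
      rw [h4, map_one]
    exact (QuotientGroup.eq_one_iff g).1 h5
  -- the torus element
  have hxn : emb e (x ^ n) = slM F (A ^ n) := by rw [map_pow, hx, map_pow]
  have hoy : orderOf (x ^ n) = r := by
    rw [← orderOf_injective (emb e) (emb_inj e), hxn, orderOf_injective _ slM_inj, hno]
  have hmS : (⟨x ^ n, H.pow_mem hxH n⟩ : H) ∈ S := by
    have ir : Fact r.Prime := ⟨hr.prime⟩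
    by_contra hcon
    apply hi
    have h1 : orderOf (QuotientGroup.mk' S ⟨x ^ n, H.pow_mem hxH n⟩) = r := by
      apply orderOf_eq_prime
      · rw [← map_pow]
        have h2 : (⟨x ^ n, H.pow_mem hxH n⟩ : H) ^ r = 1 := by
          apply Subtype.ext
          change (x ^ n) ^ r = 1
          rw [← hoy]
          exact pow_orderOf_eq_one _
        rw [h2, map_one]
      · intro h2
        apply hcon
        rwa [QuotientGroup.mk'_apply, QuotientGroup.eq_one_iff] at h2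
    rw [← h1, Subgroup.index]
    exact orderOf_dvd_natCard _
  have hmem : slM F (A ^ n) ∈ SubQ.img φ := by
    rw [himg]
    exact ⟨⟨_, hmS⟩, hxn⟩
  have hs : ∃ g, ((φ g : AutO F) : V F ≃ₗ[F] V F) = slM F (A ^ n) := SubQ.exists_of_mem_img φ hmem
  have hstb := stb_of_hom p h3 hn φ hs hker
  -- the simple subgroup of the image
  haveI : IsSimpleGroup (SubQ.img φ) := by
    have e1 : φ.range ≃* SubQ.img φ := φ.range.equivMapOfInjective (AutO F).subtype (AutO F).subtype_injective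
    exact e1.symm.isSimpleGroup
  refine stb_of_simple (S := SubQ.img φ) (map_le e H) ?_ ?_ ?_ hn hmem ?_
  · intro g hg
    obtain ⟨s, rfl⟩ := (himg g).1 hg
    exact ⟨_, (s : H).2, rfl⟩
  · by_contra hcon
    push Not at hcon
    apply hna
    refine ⟨⟨fun a b => ?_⟩⟩
    have h1 := hcon _ ((himg _).2 ⟨a, rfl⟩) _ ((himg _).2 ⟨b, rfl⟩)
    rw [← map_mul, ← map_mul] at h1
    have h2 := emb_inj e h1
    exact Subtype.ext (Subtype.ext h2)
  · rintro _ ⟨k, hk, rfl⟩ g hg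
    obtain ⟨s, rfl⟩ := (himg g).1 hg
    rw [himg]
    have h1 : (⟨k, hk⟩ : H)⁻¹ * (s : H) * (⟨k, hk⟩ : H) ∈ S := by
      have h2 := hSn.conj_mem _ s.2 (⟨k, hk⟩ : H)⁻¹
      rwa [inv_inv] at h2
    refine ⟨⟨_, h1⟩, ?_⟩
    change emb e (k⁻¹ * ((s : H) : T) * k) = _
    rw [map_mul, map_mul, map_inv]
  · intro g hg y hy
    obtain ⟨z, rfl⟩ := SubQ.exists_of_mem_img φ hg
    exact hstb z y hy

end

/-- **`Spr` from the overgroups of the torus elements.** -/
theorem spr_of_over3 {T : Type*} [Group T] [Finite T] [IsSimpleGroup T] {F : Type*} [Field F] [Finite F] (e : T ≃* AutO F)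
    (hna : ∃ x y : T, x * y ≠ y * x) (h3 : (3 : F) ≠ 0)
    (hO : ∀ x : T, orderOf x = Nat.card F ^ 2 + Nat.card F + 1 → Over3 (Nat.card F) x) : Spr T := by
  have hfF : Fintype F := Fintype.ofFinite F
  obtain ⟨p, hFp⟩ := CharP.exists F
  have hp : Fact p.Prime := ⟨CharP.char_is_prime F p⟩
  have hq2 : 2 ≤ Nat.card F := by
    rw [Nat.card_eq_fintype_card]
    exact Fintype.one_lt_card
  obtain ⟨A, hA⟩ := Cfsg.Agent.H375.LThree.exists_sl_three (F := F)
  rw [← Nat.card_eq_fintype_card] at hA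
  obtain ⟨x, hx'⟩ := e.surjective ⟨slM F A, slM_mem A⟩
  have hx : emb e x = slM F A := congrArg Subtype.val hx'
  have hxo : orderOf x = Nat.card F ^ 2 + Nat.card F + 1 := by
    rw [← orderOf_injective (emb e) (emb_inj e), hx, orderOf_injective _ slM_inj, hA]
  refine spr_of_one hna (s := x) (MT_ne_top e) ?_
  intro H hxH hH
  rcases hO x hxo H hxH hH with ⟨y, hy, hy1, hy2⟩ | ⟨S, hSn, hSs, hSna, ⟨r, hr, hi⟩, hre⟩
  · exact case_a e hA hx hy hy1 hy2 (Cfsg.Agent.H436.exists_prim hq2 le_rfl (by norm_num))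
  · exact case_b (p := p) e h3 hA hx hxH hSn hSs hSna hr hi hre

/-- the isomorphism -/
theorem exists_equiv {F : Type} [Field F] [Finite F] : Nonempty (AutO F ≃* ↥(chevG2.group F)) := by
  obtain ⟨f⟩ := Cfsg.Agent.H638.G2Iso.equiv (F := F)
  have h1 : (Cfsg.Lie.G2 F).map (toE F).toMonoidHom = AutO F := by
    ext g
    constructor
    · rintro ⟨y, hy, rfl⟩
      exact toE_mem.2 hy
    · intro hg
      obtain ⟨y, rfl⟩ := (toE F).surjective g
      exact ⟨y, toE_mem.1 hg, rfl⟩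
  have e1 : Cfsg.Lie.G2 F ≃* (Cfsg.Lie.G2 F).map (toE F).toMonoidHom := (toE F).subgroupMap _
  exact ⟨((e1.trans (MulEquiv.subgroupCongr h1)).symm).trans f⟩

/-- **the row `G₂(q)`, `3 ∤ q`** -/
theorem row_of_over3 {q : ℕ} (h3 : ¬ 3 ∣ q)
    (hO : ∀ {T : Type} [Group T] [Finite T], IsSimpleGroup T → Cfsg.Agent.H436.IsNamed (.g2 q) T →
      ∀ x : T, orderOf x = q ^ 2 + q + 1 → Over3 q x) : Cfsg.Agent.H862.Spr.Row (.g2 q) := by
  intro T _ _ hs hT
  obtain ⟨hre, -⟩ := id hT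
  obtain ⟨F, i1, i2, hF, ⟨f⟩⟩ := hre
  obtain ⟨g⟩ := exists_equiv (F := F)
  have hFq : Nat.card F = q := by rw [Nat.card_eq_fintype_card, hF]
  have h3F : (3 : F) ≠ 0 := by
    intro h0
    obtain ⟨p, hFp⟩ := CharP.exists F
    have hp : p.Prime := CharP.char_is_prime F p
    have h4 : ((3 : ℕ) : F) = 0 := by exact_mod_cast h0
    rw [CharP.cast_eq_zero_iff F p] at h4
    have h5 := (Nat.prime_dvd_prime_iff_eq hp Nat.prime_three).1 h4
    subst h5
    obtain ⟨n, -, hn⟩ := FiniteField.card F 3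
    apply h3
    rw [← hF, hn]
    exact dvd_pow_self 3 n.ne_zero
  have e : T ≃* AutO F := f.trans g.symm
  refine spr_of_over3 e ?_ h3F ?_
  · by_contra hcon
    push Not at hcon
    have h4 : ∀ x y : AutO F, x * y = y * x := by
      intro x y
      apply e.symm.injective
      rw [map_mul, map_mul]
      exact hcon _ _
    have h5 : slM F (ta F) * slM F (tb F) = slM F (tb F) * slM F (ta F) :=
      congrArg Subtype.val (h4 ⟨slM F (ta F), slM_mem _⟩ ⟨slM F (tb F), slM_mem _⟩)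
    rw [← map_mul, ← map_mul] at h5
    have h6 := slM_inj h5
    rw [ta_mul_tb] at h6
    exact tz_ne (mul_left_cancel (a := tb F * ta F) (by rw [mul_one]; exact h6))
  · rw [hFq]
    exact hO hs hT

end Cfsg.Agent.H244.G2S
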