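import Cfsg.Agent.H394.Wei.G2Six
import Cfsg.Agent.H244.G2S.Main

/-!
# Numbers for the overgroups of the torus of order `q² + q + 1` of `G₂(q)`, `q ≥ 5` (helper244)
-/

set_option autoImplicit false
set_option exponentiation.threshold 700

namespace Cfsg.Agent.H244.G2S

open Cfsg.Agent.OrdDiv Cfsg.Agent.H436 Cfsg.Agent.H902 Cfsg.Agent.H290.ElReg Cfsg.Agent.H290.ElTab
  Cfsg.Agent.H290.ElCross Cfsg.Agent.H563.KG Cfsg.Agent.H983.KG2 Cfsg.Agent.H946.Num Cfsg.Agent.H946.Rad
open Cfsg.Agent.H394.Wei (dvs p13 nsq nsq_spec spor_one mem_dvs)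

theorem N3_cases (q : ℕ) : N3 q = c3 q ∨ N3 q = 3 * c3 q := by
  have hN := c3_mul q
  rcases gcd3 (n := N3 q) with h | ⟨h, -⟩
  · left; rw [h, one_mul] at hN; exact hN.symm
  · right; rw [h] at hN; exact hN.symm

/-! ### sporadic groups -/

def sv3 : Bool := spor.all fun x => (dvs x.2 (p13 x.2)).all fun d => [d, 3 * d].all fun m =>
  nsq m fun s => Nat.blt s 5 || (s % 3 == 0 || (!(c3 s == d) || (!(OL .G2 s % x.2 == 0) ||
    (s == 11 && decide (x.1 = .j1)))))

theorem sv3_true : sv3 = true := by decide +kernel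

theorem spor_three {q : ℕ} (hq : 5 ≤ q) (h3 : ¬ 3 ∣ q) {x : Grp × ℕ} (hx : x ∈ spor) (hk : c3 q ∣ x.2)
    (hd : x.2 ∣ OL .G2 q) : q = 11 ∧ x.1 = .j1 := by
  have hq1 : 1 ≤ q := by omega
  have h1 := spor_one hx hk fun r hr h => by
    have := mod_of_prim (by omega) (by norm_num) (prim_c3 hq1 hr h)
    omega
  have h2 := List.all_eq_true.1 (List.all_eq_true.1 sv3_true x hx) _ h1
  have h4 := List.all_eq_true.1 h2 (N3 q) (by
    rcases N3_cases q with h | h
    · rw [h]; simp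
    · rw [h]; simp)
  have h5 := nsq_spec h4 (by omega) (rfl : q ^ 2 + q + 1 = N3 q)
  have h6 : OL .G2 q % x.2 = 0 := Nat.mod_eq_zero_of_dvd hd
  have h7 : ¬ q < 5 := by omega
  have h8 : q % 3 ≠ 0 := fun h => h3 (Nat.dvd_of_mod_eq_zero h)
  simpa [h6, h7, h8] using h5

/-! ### cross characteristic -/

theorem q_cases {q : ℕ} (hq : 5 ≤ q) (h3 : ¬ 3 ∣ q) (hk : c3 q ≤ 91) (hr : ∀ r, r.Prime → r ∣ c3 q → r ≤ 29) :
    q = 7 ∨ q = 16 := by
  have hq16 : q ≤ 16 := by
    by_contra hcon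
    have h1 : 17 ^ 2 ≤ q ^ 2 := Nat.pow_le_pow_left (by omega) 2
    have h2 : N3 q = q ^ 2 + q + 1 := rfl
    rcases N3_cases q with h | h <;> omega
  have hkill : ∀ r, r.Prime → r ∣ c3 q → 29 < r → False := fun r h1 h2 h3 => by
    have := hr r h1 h2
    omega
  interval_cases q
  · exact (hkill 31 (by norm_num) (by decide) (by norm_num)).elim
  · exact absurd (by norm_num) h3
  · exact Or.inl rfl
  · exact (hkill 73 (by norm_num) (by decide) (by norm_num)).elim
  · exact absurd (by norm_num) h3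
  · exact (hkill 37 (by norm_num) (by decide) (by norm_num)).elim
  · revert hk; decide
  · exact absurd (by norm_num) h3
  · exact (hkill 61 (by norm_num) (by decide) (by norm_num)).elim
  · revert hk; decide
  · exact absurd (by norm_num) h3
  · exact Or.inr rfl

def svx : Bool := (reg 14).all fun x =>
  (x.2.1 == 7 || (!(OL x.1 (x.2.1 ^ x.2.2) % 19 == 0) ||
    !((Art.dd x.1 (x.2.1 ^ x.2.2) * OL .G2 7) % OL x.1 (x.2.1 ^ x.2.2) == 0))) &&
  (x.2.1 == 2 || (!(OL x.1 (x.2.1 ^ x.2.2) % 91 == 0) ||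
    (!((Art.dd x.1 (x.2.1 ^ x.2.2) * OL .G2 16) % OL x.1 (x.2.1 ^ x.2.2) == 0) ||
    (x == (.L 2, (3, 3)) || x == (.L 2, (13, 1))))))

theorem svx_true : svx = true := by decide +kernel

theorem cross_aux {X : Art.Sh} {l a N : ℕ} (hR : Art.Real X l a N) (hlb : lb X (l ^ a) ≤ 14) :
    (X, (l, a)) ∈ reg 14 ∧ (∀ t, t ∣ N → OL X (l ^ a) % t = 0) ∧
      ∀ M, N ∣ M → (Art.dd X (l ^ a) * M) % OL X (l ^ a) = 0 := by
  obtain ⟨hl, ha, hokX, heq⟩ := hR
  have hM : OL X (l ^ a) = Art.dd X (l ^ a) * N := by unfold OL; rw [numL_eq]; exact heq.symm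
  refine ⟨mem_reg (by norm_num) hl ha hokX hlb, fun t ht => ?_, fun M h => ?_⟩
  · apply Nat.mod_eq_zero_of_dvd
    rw [hM]
    exact ht.mul_left _
  · apply Nat.mod_eq_zero_of_dvd
    rw [hM]
    exact Nat.mul_dvd_mul_left _ h

theorem cross_seven {X : Art.Sh} {l a N : ℕ} (hR : Art.Real X l a N) (hlb : lb X (l ^ a) ≤ 14) (hl : l ≠ 7)
    (h19 : 19 ∣ N) (hd : N ∣ OL .G2 7) : False := by
  obtain ⟨hreg, h1, h2⟩ := cross_aux hR hlb
  have h3 := List.all_eq_true.1 svx_true (X, (l, a)) hreg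
  simp only [Bool.and_eq_true] at h3
  have h4 := h3.1
  simp only [h1 19 h19, h2 _ hd, beq_self_eq_true, Bool.not_true, Bool.false_or, Bool.or_false, beq_iff_eq] at h4
  exact hl h4

theorem cross_sixteen {X : Art.Sh} {l a N : ℕ} (hR : Art.Real X l a N) (hlb : lb X (l ^ a) ≤ 14) (hl : l ≠ 2)
    (h91 : 91 ∣ N) (hd : N ∣ OL .G2 16) : (X = .L 2 ∧ l = 3 ∧ a = 3) ∨ (X = .L 2 ∧ l = 13 ∧ a = 1) := by
  obtain ⟨hreg, h1, h2⟩ := cross_aux hR hlb
  have h3 := List.all_eq_true.1 svx_true (X, (l, a)) hreg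
  simp only [Bool.and_eq_true] at h3
  have h4 := h3.2
  simp only [h1 91 h91, h2 _ hd, beq_self_eq_true, Bool.not_true, Bool.false_or, Bool.or_eq_true, beq_iff_eq, hl,
    false_or, Prod.mk.injEq] at h4
  exact h4

/-! ### alternating groups -/

theorem alt_five {S : Type*} [Group S] [Finite S] {m N k : ℕ} (Φ : S ≃* alternatingGroup (Fin m)) (hk : k ∣ Nat.card S)
    (h14 : 14 < k) (h7 : ∀ r, r.Prime → r ∣ k → 7 ≤ r)
    (hb : ∀ r, r.Prime → r ∣ k → H56.Exc.Big S r N 6 ∧ r ∣ Nat.card S) : False := by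
  have hm : ∀ r, r.Prime → r ∣ k → m ≤ r + 3 := fun r hr h =>
    Cfsg.Agent.H394.Wei.alt_le (hb r hr h).1 (hb r hr h).2 (by have := h7 r hr h; omega) Φ
  have hr2 : ∀ r, r.Prime → r ∣ k → r = 7 ∨ r = 13 := fun r hr h =>
    Cfsg.Agent.H394.Wei.alt_prime (hb r hr h).1 (hb r hr h).2 (h7 r hr h) Φ
  have hkm : k ∣ m.factorial := by
    have h2 : k ∣ Nat.card (Equiv.Perm (Fin m)) :=
      (hk.trans (Nat.card_congr Φ.toEquiv).dvd).trans (Subgroup.card_subgroup_dvd_card _)
    rwa [Nat.card_perm, Nat.card_fin] at h2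
  by_cases h : 7 ∣ k
  · have h1 := hm 7 (by norm_num) h
    have h2 : k ∣ Nat.factorial 10 := hkm.trans (Nat.factorial_dvd_factorial h1)
    have h3 : k ∈ dvs (Nat.factorial 10) [7] := by
      refine mem_dvs _ ?_ (by omega) h2 fun r hr hrk => ?_
      · intro r hr
        rw [List.mem_singleton] at hr
        subst hr
        exact ⟨by norm_num, by decide +kernel⟩
      · rcases hr2 r hr hrk with rfl | rfl
        · simp
        · exfalso
          have h4 := hrk.trans h2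
          revert h4
          decide +kernel
    have h5 : dvs (Nat.factorial 10) [7] = [1, 7] := by decide +kernel
    rw [h5] at h3
    simp only [List.mem_cons, List.not_mem_nil, or_false] at h3
    omega
  · have h0 : 13 ∣ k := by
      obtain ⟨r, hr, hrk⟩ := Nat.exists_prime_and_dvd (n := k) (by omega)
      rcases hr2 r hr hrk with rfl | rfl
      · exact absurd hrk h
      · exact hrk
    have h1 := hm 13 (by norm_num) h0
    have h2 : k ∣ Nat.factorial 16 := hkm.trans (Nat.factorial_dvd_factorial h1)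
    have h3 : k ∈ dvs (Nat.factorial 16) [13] := by
      refine mem_dvs _ ?_ (by omega) h2 fun r hr hrk => ?_
      · intro r hr
        rw [List.mem_singleton] at hr
        subst hr
        exact ⟨by norm_num, by decide +kernel⟩
      · rcases hr2 r hr hrk with rfl | rfl
        · exact absurd hrk h
        · simp
    have h5 : dvs (Nat.factorial 16) [13] = [1, 13] := by decide +kernel
    rw [h5] at h3
    simp only [List.mem_cons, List.not_mem_nil, or_false] at h3
    omega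

end Cfsg.Agent.H244.G2S
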