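import Cfsg.Agent.H244.G2S.Rep
import Cfsg.Agent.H244.G2S.Deg

/-!
# The images of `SL(3, E)` in the automorphism group of the octonions, odd characteristic (helper244)
-/

set_option autoImplicit false

namespace Cfsg.Agent.H244.G2S

open Module Matrix Cfsg.Lie Cfsg.Agent.H161.Oct
open Cfsg Cfsg.Geo
open Cfsg.Agent.H436 (Prim)

namespace SubQ

variable {F : Type*} [Field F] {ι : Type} [Fintype ι] [DecidableEq ι] (Q : SubQ F ι)

/-- the matrix representation -/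
def mat : AutO F →* Matrix ι ι F :=
  ((LinearMap.toMatrixAlgEquiv' : ((ι → F) →ₗ[F] (ι → F)) ≃ₐ[F] Matrix ι ι F) :
    ((ι → F) →ₗ[F] (ι → F)) →* Matrix ι ι F).comp Q.rho

theorem mat_mulVec (g : AutO F) (y : ι → F) : Q.mat g *ᵥ y = Q.rho g y := by
  change LinearMap.toMatrix' (Q.rho g) *ᵥ y = Q.rho g y
  rw [LinearMap.toMatrix'_mulVec]

/-- the representation -/
def gl : AutO F →* GL ι F := Q.mat.toHomUnits

theorem gl_mulVec (g : AutO F) (y : ι → F) : (Q.gl g : Matrix ι ι F) *ᵥ y = Q.prj ((g : V F ≃ₗ[F] V F) (Q.inc y)) :=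
  Q.mat_mulVec g y

variable [Finite F] {A : Matrix.SpecialLinearGroup (Fin 3) F} {r : ℕ} (h : Tor A r)
  {G : Type*} [Group G] (φ : G →* AutO F) (hs : ∃ g, ((φ g : AutO F) : V F ≃ₗ[F] V F) = slM F A)
  (hns : ¬ ∀ g, ∀ x ∈ EE F, ((φ g : AutO F) : V F ≃ₗ[F] V F) x ∈ EE F)
include h hs hns

/-- the image -/
abbrev img (φ : G →* AutO F) : Subgroup (V F ≃ₗ[F] V F) := φ.range.map (AutO F).subtype

omit [Finite F] h hs hns in
theorem img_le : img φ ≤ AutO F := by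
  rintro _ ⟨g, -, rfl⟩
  exact g.2

omit [Finite F] h hs hns in
theorem mem_img (g : G) : ((φ g : AutO F) : V F ≃ₗ[F] V F) ∈ img φ := ⟨φ g, ⟨g, rfl⟩, rfl⟩

omit [Finite F] h hs hns in
theorem exists_of_mem_img {x : V F ≃ₗ[F] V F} (hx : x ∈ img φ) : ∃ g, ((φ g : AutO F) : V F ≃ₗ[F] V F) = x := by
  obtain ⟨_, ⟨g, rfl⟩, rfl⟩ := hx
  exact ⟨g, rfl⟩

/-- **absolute irreducibility from the scalar commutant** -/
theorem abs_irr (hsc : ∀ T : Module.End F (ι → F), (∀ g ∈ img φ, ∀ y, T (Q.prj (g (Q.inc y))) = Q.prj (g (Q.inc (T y)))) →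
    ∃ c : F, ∀ y, T y = c • y) : ActsAbsolutelyIrreducibly (matrixSet (Q.gl.comp φ).range) := by
  have hs' : slM F A ∈ img φ := by
    obtain ⟨g, hg⟩ := hs
    rw [← hg]
    exact mem_img φ g
  have hns' : ¬ Stb (img φ) (EE F) := fun hh => hns fun g x hx => hh _ (mem_img φ g) x hx
  refine ⟨fun W hW => ?_, fun M hM => ?_⟩
  · apply Q.irr (img_le φ) h hs' hns'
    intro x hx y hy
    obtain ⟨g, rfl⟩ := exists_of_mem_img φ hx
    have h1 := hW (Q.gl (φ g)) ⟨Q.gl (φ g), ⟨g, rfl⟩, rfl⟩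
    have h2 := h1 (Submodule.mem_map_of_mem hy)
    rw [Matrix.toLin'_apply, gl_mulVec] at h2
    exact h2
  · obtain ⟨c, hc⟩ := hsc (Matrix.toLin' M) (by
      intro x hx y
      obtain ⟨g, rfl⟩ := exists_of_mem_img φ hx
      have h1 := hM (Q.gl (φ g)) ⟨Q.gl (φ g), ⟨g, rfl⟩, rfl⟩
      have h2 := congrArg (fun N : Matrix ι ι F => N *ᵥ y) h1
      simp only [← Matrix.mulVec_mulVec, gl_mulVec] at h2
      rw [Matrix.toLin'_apply, Matrix.toLin'_apply]
      exact h2)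
    refine ⟨c, ?_⟩
    apply Matrix.toLin'.injective
    apply LinearMap.ext
    intro y
    rw [hc y, map_smul, Matrix.toLin'_one]
    rfl

end SubQ

section

variable {F : Type*} [Field F] [Finite F] {E : Type*} [Field E] [Finite E] (p : ℕ) [hp : Fact p.Prime]
  [hFp : CharP F p] [hEp : CharP E p] {ι : Type} [Fintype ι] [DecidableEq ι] (Q : SubQ F ι)
  {A : Matrix.SpecialLinearGroup (Fin 3) F} {r : ℕ} (h : Tor A r)
  (φ : Matrix.SpecialLinearGroup (Fin 3) E →* AutO F) (hs : ∃ g, ((φ g : AutO F) : V F ≃ₗ[F] V F) = slM F A)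
  (hns : ¬ ∀ g, ∀ x ∈ EE F, ((φ g : AutO F) : V F ≃ₗ[F] V F) x ∈ EE F)
include hp hFp hEp h hs hns

/-- the scalar commutant gives degree eight -/
theorem card_eq_eight (h3 : (3 : F) ≠ 0) (h2 : 2 ≤ Fintype.card ι) (hn : Fintype.card ι ≤ 11)
    (hsc : ∀ T : Module.End F (ι → F), (∀ g ∈ SubQ.img φ, ∀ y, T (Q.prj (g (Q.inc y))) = Q.prj (g (Q.inc (T y)))) →
    ∃ c : F, ∀ y, T y = c • y) : Fintype.card ι = 8 := by
  apply deg_psl3 p h3 (Q.gl.comp φ) (Q.abs_irr h φ hs hns hsc) Q.form ?_ Q.form_nondeg h2 hn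
  intro g x y
  have h1 : ∀ z, ((Q.gl.comp φ) g : Matrix ι ι F) *ᵥ z = Q.rho (φ g) z := fun z => Q.mat_mulVec (φ g) z
  rw [h1, h1]
  exact Q.form_rho (φ g) x y

/-- **odd characteristic** -/
theorem false_of_odd (h3 : (3 : F) ≠ 0) (h2 : (2 : F) ≠ 0) : False := by
  have hs' : slM F A ∈ SubQ.img φ := by
    obtain ⟨g, hg⟩ := hs
    rw [← hg]
    exact SubQ.mem_img φ g
  have hns' : ¬ Stb (SubQ.img φ) (EE F) := fun hh => hns fun g x hx => hh _ (SubQ.mem_img φ g) x hx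
  have h8 := card_eq_eight p (sub7 h2) h φ hs hns h3 (by simp) (by simp) (by
    intro T hT
    set Q := sub7 h2
    have hinj : ∀ x : V F, tr x = 0 → Q.inc (Q.prj x) = x := fun x hx => inc_prj7 hx
    have hl : slM F A (l0 F) = l0 F := slM_EE A (by rw [mem_EE]; simp [l0])
    have htl : tr (l0 F) = 0 := by simp [tr, l0]
    have hv0 : Q.prj (l0 F) ≠ 0 := by
      intro h0
      have h1 := hinj _ htl
      rw [h0, map_zero] at h1
      have h2 := congrFun h1 0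
      simp [l0] at h2
    have h1 : slM F A (Q.inc (T (Q.prj (l0 F)))) = Q.inc (T (Q.prj (l0 F))) := by
      have h2 := hT _ hs' (Q.prj (l0 F))
      rw [hinj _ htl, hl] at h2
      have h4 := congrArg Q.inc h2
      rw [hinj _ (by rw [map_tr (slM_mem A), Q.tr_inc])] at h4
      exact h4.symm
    have h5 := h.mem_EE h1
    have h6 : Q.inc (T (Q.prj (l0 F))) = (Q.inc (T (Q.prj (l0 F))) 0) • l0 F := by
      rw [← pE_eq_l0 (Q.tr_inc _), pE_of_mem h5]
    have h7 := congrArg Q.prj h6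
    rw [Q.prj_inc, map_smul] at h7
    exact ⟨_, fun y => Q.scalar_of_eig (SubQ.img_le φ) h hs' hns' hT hv0 h7 y⟩)
  simp at h8

end

end Cfsg.Agent.H244.G2S
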