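import Cfsg.Agent.H436.Ppd

/-!
# Linear algebra over a field of order `q` with an element of order `r`, `r` primitive for `q ^ 3 - 1` (helper244)
-/

set_option autoImplicit false

namespace Cfsg.Agent.H244.G2S

open Module Matrix
open Cfsg.Agent.H436 (Prim)

section count

variable {F : Type*} [Field F] [Finite F] {V : Type*} [AddCommGroup V] [Module F V] [FiniteDimensional F V]

/-- counting -/
theorem three_dvd {r : ℕ} (hr : Prim (Nat.card F) 3 r) (g : V →ₗ[F] V) (hg : ∀ x, (g ^ r) x = x) (U : Submodule F V)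
    (hU : ∀ x ∈ U, g x ∈ U) (hfix : ∀ x ∈ U, g x = x → x = 0) : 3 ∣ finrank F U := by
  classical
  have := Fact.mk hr.prime
  have hV : Finite V := Module.finite_of_finite F
  have hUf : Fintype U := Fintype.ofFinite _
  let f : Function.End U := fun x => ⟨g x, hU x x.2⟩
  have hpow : ∀ (n : ℕ) (x : U), (((f ^ n : Function.End U) x : U) : V) = (g ^ n) x := by
    intro n
    induction n with
    | zero => intro x; rfl
    | succ n ih =>
      intro x
      rw [pow_succ, pow_succ]
      change (((f ^ n : Function.End U) (f x) : U) : V) = (g ^ n) (g x)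
      rw [ih]
  have hf : f ^ r ^ 1 = 1 := by
    funext x
    apply Subtype.ext
    rw [hpow, pow_one, hg]
    rfl
  have h1 := Equiv.Perm.card_fixedPoints_modEq (p := r) (n := 1) hf
  have h2 : Fintype.card f.fixedPoints = 1 := by
    rw [Fintype.card_eq_one_iff]
    refine ⟨⟨0, ?_⟩, ?_⟩
    · change f 0 = 0
      apply Subtype.ext
      change g 0 = 0
      rw [map_zero]
    · rintro ⟨x, hx⟩
      apply Subtype.ext
      apply Subtype.ext
      have h3 : g x = x := congrArg Subtype.val hx
      exact hfix x x.2 h3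
  rw [h2, ← Nat.card_eq_fintype_card, Module.natCard_eq_pow_finrank (K := F)] at h1
  have h3 : r ∣ Nat.card F ^ finrank F U - 1 := (Nat.modEq_iff_dvd' (Nat.one_le_pow _ _ Nat.card_pos)).1 h1.symm
  exact (hr.dvd_iff _).1 h3

theorem cast_ne {r : ℕ} (hr : Prim (Nat.card F) 3 r) : (r : F) ≠ 0 := by
  intro h0
  obtain ⟨p, hp⟩ := CharP.exists F
  have hpp : p.Prime := CharP.char_is_prime F p
  have h1 : p ∣ r := (CharP.cast_eq_zero_iff F p r).1 h0
  have h2 := (Nat.prime_dvd_prime_iff_eq hpp hr.prime).1 h1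
  subst h2
  have : Fintype F := Fintype.ofFinite F
  obtain ⟨n, -, hn⟩ := FiniteField.card F p
  apply hr.not_dvd
  rw [Nat.card_eq_fintype_card, hn]
  exact dvd_pow_self p n.ne_zero

/-- the norm map -/
def nrm (g : V →ₗ[F] V) (r : ℕ) : V →ₗ[F] V := ∑ i ∈ Finset.range r, g ^ i

omit [Finite F] [FiniteDimensional F V] in
theorem nrm_apply (g : V →ₗ[F] V) (r : ℕ) (x : V) : nrm g r x = ∑ i ∈ Finset.range r, (g ^ i) x := by
  unfold nrm
  rw [LinearMap.sum_apply]

omit [Finite F] [FiniteDimensional F V] in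
theorem nrm_fixed {g : V →ₗ[F] V} {r : ℕ} (hg : ∀ x, (g ^ r) x = x) (x : V) : g (nrm g r x) = nrm g r x := by
  have h1 : g (nrm g r x) = ∑ i ∈ Finset.range r, (g ^ (i + 1)) x := by
    rw [nrm_apply, map_sum]
    refine Finset.sum_congr rfl fun i _ => ?_
    rw [pow_succ']
    rfl
  rw [h1, nrm_apply]
  have h2 := Finset.sum_range_succ (fun i => (g ^ i) x) r
  have h3 := Finset.sum_range_succ' (fun i => (g ^ i) x) r
  rw [h2, hg] at h3
  simp only [pow_zero] at h3
  exact (add_right_cancel h3).symm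

omit [Finite F] [FiniteDimensional F V] in
theorem nrm_mem {g : V →ₗ[F] V} {r : ℕ} {U : Submodule F V} (hU : ∀ x ∈ U, g x ∈ U) {x : V} (hx : x ∈ U) :
    nrm g r x ∈ U := by
  rw [nrm_apply]
  refine U.sum_mem fun i hi => ?_
  clear hi
  induction i with
  | zero => exact hx
  | succ n ih =>
    rw [pow_succ']
    exact hU _ ih

omit [Finite F] [FiniteDimensional F V] in
theorem nrm_of_fixed {g : V →ₗ[F] V} {r : ℕ} {x : V} (hx : g x = x) : nrm g r x = (r : F) • x := by
  rw [nrm_apply]
  have h1 : ∀ i, (g ^ i) x = x := by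
    intro i
    induction i with
    | zero => rfl
    | succ n ih => rw [pow_succ, Module.End.mul_apply, hx, ih]
  rw [Finset.sum_congr rfl fun i _ => h1 i, Finset.sum_const, Finset.card_range, Nat.cast_smul_eq_nsmul]

/-- an invariant subspace of dimension 3 with a nontrivial action has no fixed vectors -/
theorem fix_zero {r : ℕ} (hr : Prim (Nat.card F) 3 r) {g : V →ₗ[F] V} (hg : ∀ x, (g ^ r) x = x) {X : Submodule F V}
    (hX : ∀ x ∈ X, g x ∈ X) (hX3 : finrank F X = 3) (hne : ∃ x ∈ X, g x ≠ x) {x : V} (hx : x ∈ X) (hgx : g x = x) :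
    x = 0 := by
  have hr0 := cast_ne hr
  let U : Submodule F V := X ⊓ LinearMap.ker (nrm g r)
  have hUfix : ∀ y ∈ U, g y = y → y = 0 := by
    intro y hy hgy
    have h1 := LinearMap.mem_ker.1 hy.2
    rw [nrm_of_fixed hgy] at h1
    exact (smul_eq_zero.1 h1).resolve_left hr0
  have hUinv : ∀ y ∈ U, g y ∈ U := by
    intro y hy
    refine ⟨hX y hy.1, LinearMap.mem_ker.2 ?_⟩
    have h1 := LinearMap.mem_ker.1 hy.2
    have h2 : nrm g r (g y) = g (nrm g r y) := by
      rw [nrm_apply, nrm_apply, map_sum]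
      refine Finset.sum_congr rfl fun i _ => ?_
      rw [← Module.End.mul_apply, ← Module.End.mul_apply, ← pow_succ, ← pow_succ']
    rw [h2, h1, map_zero]
  have h3 := three_dvd hr g hg U hUinv hUfix
  have hle : finrank F U ≤ finrank F X := Submodule.finrank_mono inf_le_left
  rcases (show finrank F U = 0 ∨ finrank F U = 3 by omega) with h | h
  · exfalso
    obtain ⟨y, hy, hgy⟩ := hne
    apply hgy
    have h0 : U = ⊥ := Submodule.finrank_eq_zero.1 h
    have hz : y - (r : F)⁻¹ • nrm g r y ∈ U := by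
      refine ⟨X.sub_mem hy (X.smul_mem _ (nrm_mem hX hy)), LinearMap.mem_ker.2 ?_⟩
      rw [map_sub, map_smul, nrm_of_fixed (nrm_fixed hg y), smul_smul, inv_mul_cancel₀ hr0, one_smul, sub_self]
    rw [h0, Submodule.mem_bot, sub_eq_zero] at hz
    rw [hz, map_smul, nrm_fixed hg]
  · have h0 : U = X := Submodule.eq_of_le_of_finrank_eq inf_le_left (by rw [h, hX3])
    exact hUfix x (by rw [h0]; exact hx) hgx

/-- invariant subspaces of an invariant subspace of dimension 3 with a nontrivial action -/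
theorem inv_cases {r : ℕ} (hr : Prim (Nat.card F) 3 r) {g : V →ₗ[F] V} (hg : ∀ x, (g ^ r) x = x) {X : Submodule F V}
    (hX3 : finrank F X = 3) (hfix : ∀ x ∈ X, g x = x → x = 0) {U : Submodule F V} (hUX : U ≤ X)
    (hU : ∀ x ∈ U, g x ∈ U) : U = ⊥ ∨ U = X := by
  have h3 := three_dvd hr g hg U hU fun x hx h => hfix x (hUX hx) h
  have hle : finrank F U ≤ finrank F X := Submodule.finrank_mono hUX
  rcases (show finrank F U = 0 ∨ finrank F U = 3 by omega) with h | h
  · exact Or.inl (Submodule.finrank_eq_zero.1 h)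
  · exact Or.inr (Submodule.eq_of_le_of_finrank_eq hUX (by rw [h, hX3]))

end count

/-! ### invariant bilinear forms in dimension 3 -/

section form

variable {F : Type*} [Field F] [Finite F] {A J : Matrix (Fin 3) (Fin 3) F}

omit [Finite F] in
/-- kernel of an alternating matrix -/
theorem exists_ker_alt {N : Matrix (Fin 3) (Fin 3) F} (h0 : ∀ i, N i i = 0) (hs : ∀ i j, N i j = - N j i) (hN : N ≠ 0) :
    ∃ v : Fin 3 → F, v ≠ 0 ∧ N *ᵥ v = 0 := by
  refine ⟨![N 1 2, - N 0 2, N 0 1], ?_, ?_⟩
  · intro hv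
    apply hN
    have e0 : N 1 2 = 0 := congrFun hv 0
    have e1 : - N 0 2 = 0 := congrFun hv 1
    have e2 : N 0 1 = 0 := congrFun hv 2
    have e1' : N 0 2 = 0 := by rw [← neg_eq_zero]; exact e1
    ext i j
    fin_cases i <;> fin_cases j
    · exact h0 0
    · exact e2
    · exact e1'
    · change N 1 0 = 0
      rw [hs, e2, neg_zero]
    · exact h0 1
    · exact e0
    · change N 2 0 = 0
      rw [hs, e1', neg_zero]
    · change N 2 1 = 0
      rw [hs, e0, neg_zero]
    · exact h0 2
  · have e3 := hs 1 0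
    have e4 := hs 2 0
    have e5 := hs 2 1
    ext i
    fin_cases i
    · simp [Matrix.mulVec, dotProduct, Fin.sum_univ_three, h0 0]
      ring
    · simp [Matrix.mulVec, dotProduct, Fin.sum_univ_three, h0 1, e3]
      ring
    · simp [Matrix.mulVec, dotProduct, Fin.sum_univ_three, h0 2, e4, e5]
      ring

variable (hdet : A.det = 1) (hfix : ∀ v, A *ᵥ v = v → v = 0)
  (hirr : ∀ U : Submodule F (Fin 3 → F), (∀ v ∈ U, A *ᵥ v ∈ U) → U = ⊥ ∨ U = ⊤)
include hdet hfix hirr

omit [Finite F] hdet hfix in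
theorem eq_zero_of_ker {N : Matrix (Fin 3) (Fin 3) F} (hN : Aᵀ * N * A = N) (hA : IsUnit A)
    (hv : ∃ v : Fin 3 → F, v ≠ 0 ∧ N *ᵥ v = 0) : N = 0 := by
  have hinv : ∀ v ∈ LinearMap.ker (Matrix.mulVecLin N), A *ᵥ v ∈ LinearMap.ker (Matrix.mulVecLin N) := by
    intro v hv
    rw [LinearMap.mem_ker, Matrix.mulVecLin_apply] at hv ⊢
    have h1 : Aᵀ *ᵥ (N *ᵥ (A *ᵥ v)) = 0 := by
      rw [Matrix.mulVec_mulVec, Matrix.mulVec_mulVec, hN, hv]
    have h2 : IsUnit Aᵀ := (Matrix.isUnit_transpose (A := A)).2 hA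
    exact (Matrix.mulVec_injective_of_isUnit h2) (by rw [h1, Matrix.mulVec_zero])
  rcases hirr _ hinv with h | h
  · obtain ⟨v, hv0, hv⟩ := hv
    have h1 : v ∈ LinearMap.ker (Matrix.mulVecLin N) := by rw [LinearMap.mem_ker, Matrix.mulVecLin_apply, hv]
    rw [h, Submodule.mem_bot] at h1
    exact absurd h1 hv0
  · ext i j
    have h1 : Pi.single j 1 ∈ LinearMap.ker (Matrix.mulVecLin N) := by rw [h]; trivial
    rw [LinearMap.mem_ker, Matrix.mulVecLin_apply] at h1
    have h2 := congrFun h1 i
    simpa [Matrix.mulVec, dotProduct, Pi.single_apply] using h2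

/-- **There is no invariant bilinear form.** -/
theorem no_form (hJ : Aᵀ * J * A = J) : J = 0 := by
  have hA : IsUnit A := by
    rw [Matrix.isUnit_iff_isUnit_det, hdet]
    exact isUnit_one
  have key := fun {N : Matrix (Fin 3) (Fin 3) F} (hN : Aᵀ * N * A = N) hv => eq_zero_of_ker hirr hN hA hv
  by_cases h2 : (2 : F) = 0
  · have h22 : ∀ x : F, x + x = 0 := fun x => by rw [← two_mul, h2, zero_mul]
    have hneg : ∀ x : F, -x = x := fun x => by
      have := h22 x
      exact neg_eq_of_add_eq_zero_left this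
    -- the alternating part
    have hN : J + Jᵀ = 0 := by
      by_contra hne
      apply hne
      apply key
      · have h3 := congrArg Matrix.transpose hJ
        rw [Matrix.transpose_mul, Matrix.transpose_mul, Matrix.transpose_transpose, ← Matrix.mul_assoc] at h3
        rw [Matrix.mul_add, Matrix.add_mul, hJ, h3]
      · apply exists_ker_alt _ _ hne
        · intro i
          rw [Matrix.add_apply, Matrix.transpose_apply]
          exact h22 _
        · intro i j
          rw [Matrix.add_apply, Matrix.add_apply, Matrix.transpose_apply, Matrix.transpose_apply, hneg, add_comm]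
    have hsym : ∀ i j, J i j = J j i := by
      intro i j
      have h3 := congrFun (congrFun hN i) j
      rw [Matrix.add_apply, Matrix.transpose_apply, Matrix.zero_apply] at h3
      rw [← hneg (J j i)]
      exact eq_neg_of_add_eq_zero_left h3
    -- the quadratic form
    have hQ : ∀ v : Fin 3 → F, v ⬝ᵥ (J *ᵥ v) = J 0 0 * v 0 ^ 2 + J 1 1 * v 1 ^ 2 + J 2 2 * v 2 ^ 2 := by
      intro v
      simp only [Matrix.mulVec, dotProduct, Fin.sum_univ_three]
      rw [hsym 1 0, hsym 2 0, hsym 2 1]
      linear_combination (v 0 * v 1 * J 0 1 + v 0 * v 2 * J 0 2 + v 1 * v 2 * J 1 2) * h2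
    have hch : CharP F 2 := CharTwo.of_one_ne_zero_of_two_eq_zero one_ne_zero h2
    let Z : Submodule F (Fin 3 → F) :=
      { carrier := {v | v ⬝ᵥ (J *ᵥ v) = 0}
        zero_mem' := by simp
        add_mem' := by
          intro v w hv hw
          simp only [Set.mem_ofPred_eq, hQ] at hv hw ⊢
          simp only [Pi.add_apply]
          linear_combination hv + hw + (J 0 0 * v 0 * w 0 + J 1 1 * v 1 * w 1 + J 2 2 * v 2 * w 2) * h2
        smul_mem' := by
          intro c v hv
          simp only [Set.mem_ofPred_eq, hQ] at hv ⊢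
          simp only [Pi.smul_apply, smul_eq_mul]
          linear_combination c ^ 2 * hv }
    have hZ : ∀ v ∈ Z, A *ᵥ v ∈ Z := by
      intro v hv
      change (A *ᵥ v) ⬝ᵥ (J *ᵥ (A *ᵥ v)) = 0
      have h3 : v ⬝ᵥ (J *ᵥ v) = 0 := hv
      rw [← hJ] at h3
      rw [← h3]
      rw [← Matrix.mulVec_mulVec, ← Matrix.mulVec_mulVec, Matrix.dotProduct_mulVec v, Matrix.vecMul_transpose]
    have hdiag : ∀ i, J i i = 0 := by
      rcases hirr Z hZ with h | h
      · exfalso
        have hex : ∃ v ∈ Z, v ≠ 0 := by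
          by_cases h00 : J 0 0 = 0
          · refine ⟨![1, 0, 0], ?_, fun h4 => one_ne_zero (congrFun h4 0)⟩
            change _ = _
            rw [hQ]
            simp [h00]
          · obtain ⟨c, hc⟩ := FiniteField.isSquare_of_char_two (ringChar.eq F 2) (J 1 1 * (J 0 0)⁻¹)
            refine ⟨![c, 1, 0], ?_, fun h4 => one_ne_zero (congrFun h4 1)⟩
            change _ = _
            rw [hQ]
            have h5 : J 0 0 * c ^ 2 = J 1 1 := by
              rw [pow_two, ← hc, mul_comm (J 1 1), mul_inv_cancel_left₀ h00]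
            simp [h5, h22]
        obtain ⟨v, hv, hv0⟩ := hex
        rw [h, Submodule.mem_bot] at hv
        exact hv0 hv
      · intro i
        have h3 : (Pi.single i 1 : Fin 3 → F) ∈ Z := by rw [h]; trivial
        have h4 : (Pi.single i 1 : Fin 3 → F) ⬝ᵥ (J *ᵥ Pi.single i 1) = 0 := h3
        simpa using h4
    by_contra hne
    exact hne (key hJ (exists_ker_alt hdiag (fun i j => by rw [hneg]; exact hsym i j) hne))
  · by_contra hne
    have hJdet : J.det ≠ 0 := by
      intro h0
      obtain ⟨v, hv0, hv⟩ := Matrix.exists_mulVec_eq_zero_iff.2 h0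
      exact hne (key hJ ⟨v, hv0, hv⟩)
    have h1 : (A - 1)ᵀ * J = Aᵀ * J * (1 - A) := by
      rw [Matrix.transpose_sub, Matrix.transpose_one, Matrix.sub_mul, Matrix.one_mul, Matrix.mul_sub, Matrix.mul_one, hJ]
    have h3 := congrArg Matrix.det h1
    rw [Matrix.det_mul, Matrix.det_transpose, Matrix.det_mul, Matrix.det_mul, Matrix.det_transpose, hdet, one_mul,
      ← neg_sub A 1, Matrix.det_neg, Fintype.card_fin] at h3
    have h4 : (2 : F) * ((A - 1).det * J.det) = 0 := by linear_combination h3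
    have h5 : (A - 1).det ≠ 0 := by
      intro h0
      obtain ⟨v, hv0, hv⟩ := Matrix.exists_mulVec_eq_zero_iff.2 h0
      rw [Matrix.sub_mulVec, Matrix.one_mulVec, sub_eq_zero] at hv
      exact hv0 (hfix v hv)
    exact mul_ne_zero h2 (mul_ne_zero h5 hJdet) h4

end form

end Cfsg.Agent.H244.G2S
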