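import Cfsg.Agent.H161.G2Elems
import Cfsg.Agent.H244.G2S.Lin

/-!
# The octonions and a torus element of order dividing `q² + q + 1` (helper244)
-/

set_option autoImplicit false

namespace Cfsg.Agent.H244.G2S

open Module Matrix Cfsg.Lie Cfsg.Agent.H161.Oct
open Cfsg.Agent.H436 (Prim)

section sub

variable (F : Type*) [Field F]

/-- the two-dimensional split subalgebra -/
def EE : Submodule F (V F) where
  carrier := {x | x 1 = 0 ∧ x 2 = 0 ∧ x 3 = 0 ∧ x 4 = 0 ∧ x 5 = 0 ∧ x 6 = 0}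
  zero_mem' := by simp
  add_mem' := by
    rintro x y ⟨h1, h2, h3, h4, h5, h6⟩ ⟨k1, k2, k3, k4, k5, k6⟩
    simp [h1, h2, h3, h4, h5, h6, k1, k2, k3, k4, k5, k6]
  smul_mem' := by
    rintro c x ⟨h1, h2, h3, h4, h5, h6⟩
    simp [h1, h2, h3, h4, h5, h6]

/-- the orthogonal complement -/
def W6 : Submodule F (V F) where
  carrier := {x | x 0 = 0 ∧ x 7 = 0}
  zero_mem' := by simp
  add_mem' := by
    rintro x y ⟨h1, h2⟩ ⟨k1, k2⟩
    simp [h1, h2, k1, k2]
  smul_mem' := by
    rintro c x ⟨h1, h2⟩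
    simp [h1, h2]

/-- the two isotropic subspaces -/
def WA : Submodule F (V F) := LinearMap.range (iA : (Fin 3 → F) →ₗ[F] V F)
def WB : Submodule F (V F) := LinearMap.range (iB : (Fin 3 → F) →ₗ[F] V F)

/-- the projections -/
def pA : V F →ₗ[F] (Fin 3 → F) where
  toFun x := ![x 1, x 2, x 3]
  map_add' x y := by ext i; fin_cases i <;> rfl
  map_smul' c x := by ext i; fin_cases i <;> rfl

def pB : V F →ₗ[F] (Fin 3 → F) where
  toFun x := ![x 4, x 5, x 6]
  map_add' x y := by ext i; fin_cases i <;> rfl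
  map_smul' c x := by ext i; fin_cases i <;> rfl

def pE : V F →ₗ[F] V F where
  toFun x := ![x 0, 0, 0, 0, 0, 0, 0, x 7]
  map_add' x y := by apply ext8 <;> simp
  map_smul' c x := by apply ext8 <;> simp

end sub

variable {F : Type*} [Field F]

theorem mem_EE {x : V F} : x ∈ EE F ↔ x 1 = 0 ∧ x 2 = 0 ∧ x 3 = 0 ∧ x 4 = 0 ∧ x 5 = 0 ∧ x 6 = 0 := Iff.rfl
theorem mem_W6 {x : V F} : x ∈ W6 F ↔ x 0 = 0 ∧ x 7 = 0 := Iff.rfl
theorem pE_apply (x : V F) : pE F x = ![x 0, 0, 0, 0, 0, 0, 0, x 7] := rfl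
theorem pA_apply (x : V F) : pA F x = ![x 1, x 2, x 3] := rfl
theorem pB_apply (x : V F) : pB F x = ![x 4, x 5, x 6] := rfl

theorem decomp (x : V F) : x = pE F x + iA (pA F x) + iB (pB F x) := by
  rw [pE_apply, iA_apply, iB_apply]
  apply ext8 <;> simp [pA_apply, pB_apply]

theorem pE_mem (x : V F) : pE F x ∈ EE F := by
  rw [mem_EE, pE_apply]
  simp

theorem pE_of_mem {x : V F} (hx : x ∈ EE F) : pE F x = x := by
  obtain ⟨h1, h2, h3, h4, h5, h6⟩ := hx
  rw [pE_apply]
  apply ext8 <;> simp [h1, h2, h3, h4, h5, h6]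

theorem pE_iA (v : Fin 3 → F) : pE F (iA v) = 0 := by
  rw [pE_apply, iA_apply]
  apply ext8 <;> simp

theorem pE_iB (v : Fin 3 → F) : pE F (iB v) = 0 := by
  rw [pE_apply, iB_apply]
  apply ext8 <;> simp

theorem pA_iA (v : Fin 3 → F) : pA F (iA v) = v := by
  rw [pA_apply, iA_apply]
  ext i; fin_cases i <;> rfl

theorem pA_iB (v : Fin 3 → F) : pA F (iB v) = 0 := by
  rw [pA_apply, iB_apply]
  ext i; fin_cases i <;> rfl

theorem pB_iA (v : Fin 3 → F) : pB F (iA v) = 0 := by
  rw [pB_apply, iA_apply]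
  ext i; fin_cases i <;> rfl

theorem pB_iB (v : Fin 3 → F) : pB F (iB v) = v := by
  rw [pB_apply, iB_apply]
  ext i; fin_cases i <;> rfl

theorem iB_inj : Function.Injective (iB : (Fin 3 → F) →ₗ[F] V F) := by
  intro v w h
  rw [← pB_iB v, h, pB_iB]

theorem pE_eq_zero {x : V F} : pE F x = 0 ↔ x ∈ W6 F := by
  rw [mem_W6, pE_apply]
  constructor
  · intro h
    exact ⟨congrFun h 0, congrFun h 7⟩
  · rintro ⟨h1, h2⟩
    apply ext8 <;> simp [h1, h2]

theorem iA_mem_W6 (v : Fin 3 → F) : iA v ∈ W6 F := pE_eq_zero.1 (pE_iA v)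
theorem iB_mem_W6 (v : Fin 3 → F) : iB v ∈ W6 F := pE_eq_zero.1 (pE_iB v)

theorem eq_of_W6 {x : V F} (hx : x ∈ W6 F) : x = iA (pA F x) + iB (pB F x) := by
  have h1 := decomp x
  rw [pE_eq_zero.2 hx, zero_add] at h1
  exact h1

theorem WA_le : WA F ≤ W6 F := by
  rintro _ ⟨v, rfl⟩
  exact iA_mem_W6 v

theorem WB_le : WB F ≤ W6 F := by
  rintro _ ⟨v, rfl⟩
  exact iB_mem_W6 v

theorem finrank_WA : finrank F (WA F) = 3 := by
  unfold WA
  rw [LinearMap.finrank_range_of_inj iA_inj]
  simp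

theorem finrank_WB : finrank F (WB F) = 3 := by
  unfold WB
  rw [LinearMap.finrank_range_of_inj iB_inj]
  simp

theorem W6_eq : W6 F = WA F ⊔ WB F := by
  apply le_antisymm
  · intro x hx
    rw [eq_of_W6 hx]
    exact Submodule.add_mem_sup ⟨_, rfl⟩ ⟨_, rfl⟩
  · exact sup_le WA_le WB_le

theorem WA_inf_WB : WA F ⊓ WB F = ⊥ := by
  rw [eq_bot_iff]
  rintro x ⟨⟨v, rfl⟩, ⟨w, hw⟩⟩
  rw [Submodule.mem_bot]
  have h1 := congrArg (pA F) hw
  rw [pA_iB, pA_iA] at h1
  rw [← h1, map_zero]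

theorem finrank_W6 : finrank F (W6 F) = 6 := by
  have h1 := Submodule.finrank_sup_add_finrank_inf_eq (WA F) (WB F)
  rw [← W6_eq, WA_inf_WB, finrank_bot, finrank_WA, finrank_WB] at h1
  omega

theorem EE_inf_W6 {x : V F} (h1 : x ∈ EE F) (h2 : x ∈ W6 F) : x = 0 := by
  rw [← pE_of_mem h1, pE_eq_zero.2 h2]

/-! ### the action of `SL₃` -/

section sl

variable (A : Matrix.SpecialLinearGroup (Fin 3) F)

/-- the matrix of the action on the second isotropic space -/
def cofM (A : Matrix.SpecialLinearGroup (Fin 3) F) : Matrix (Fin 3) (Fin 3) F := (A.1.adjugate)ᵀ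

theorem cofM_mul : A.1ᵀ * cofM A = 1 := by
  unfold cofM
  rw [← Matrix.transpose_mul, Matrix.adjugate_mul, A.2, one_smul, Matrix.transpose_one]

theorem slM_iA (v : Fin 3 → F) : slM F A (iA v) = iA (A.1 *ᵥ v) := by
  rw [slM_apply, iA_apply, iA_apply]
  apply ext8 <;> simp [slF0, slF1, slF2, slF3, slF4, slF5, slF6, slF7, Matrix.mulVec, dotProduct, Fin.sum_univ_three]

theorem slM_iB (v : Fin 3 → F) : slM F A (iB v) = iB (cofM A *ᵥ v) := by
  rw [slM_apply, iB_apply, iB_apply]
  unfold cofM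
  rw [Matrix.adjugate_fin_three]
  apply ext8 <;> simp [slF0, slF1, slF2, slF3, slF4, slF5, slF6, slF7, Matrix.mulVec, dotProduct, Fin.sum_univ_three,
    Matrix.transpose_apply, -mul_eq_mul_right_iff] <;> ring

theorem slM_EE {x : V F} (hx : x ∈ EE F) : slM F A x = x := by
  obtain ⟨h1, h2, h3, h4, h5, h6⟩ := hx
  rw [slM_apply]
  apply ext8 <;> simp [slF0, slF1, slF2, slF3, slF4, slF5, slF6, slF7, h1, h2, h3, h4, h5, h6]

theorem slM_decomp (x : V F) : slM F A x = pE F x + iA (A.1 *ᵥ pA F x) + iB (cofM A *ᵥ pB F x) := by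
  conv_lhs => rw [decomp x]
  rw [map_add, map_add, slM_EE A (pE_mem x), slM_iA, slM_iB]

theorem pE_slM (x : V F) : pE F (slM F A x) = pE F x := by
  rw [slM_decomp, map_add, map_add, pE_iA, pE_iB, pE_of_mem (pE_mem x), add_zero, add_zero]

theorem pA_EE {x : V F} (hx : x ∈ EE F) : pA F x = 0 := by
  obtain ⟨h1, h2, h3, h4, h5, h6⟩ := hx
  rw [pA_apply]
  ext i; fin_cases i <;> simp [h1, h2, h3]

theorem pB_EE {x : V F} (hx : x ∈ EE F) : pB F x = 0 := by
  obtain ⟨h1, h2, h3, h4, h5, h6⟩ := hx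
  rw [pB_apply]
  ext i; fin_cases i <;> simp [h4, h5, h6]

theorem pA_slM (x : V F) : pA F (slM F A x) = A.1 *ᵥ pA F x := by
  rw [slM_decomp, map_add, map_add, pA_iA, pA_iB, pA_EE (pE_mem x), add_zero, zero_add]

theorem pB_slM (x : V F) : pB F (slM F A x) = cofM A *ᵥ pB F x := by
  rw [slM_decomp, map_add, map_add, pB_iA, pB_iB, pB_EE (pE_mem x), add_zero, zero_add]

end sl

/-! ### the torus element -/

/-- `A` is an element of prime order `r`, `r` primitive for `q³ - 1` -/
structure Tor (A : Matrix.SpecialLinearGroup (Fin 3) F) (r : ℕ) : Prop where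
  prim : Prim (Nat.card F) 3 r
  pow : A ^ r = 1
  ne : A ≠ 1

namespace Tor

variable [Finite F] {A : Matrix.SpecialLinearGroup (Fin 3) F} {r : ℕ} (h : Tor A r)
include h

theorem fixA (v : Fin 3 → F) (hv : A.1 *ᵥ v = v) : v = 0 := by
  have hpow : ∀ x : Fin 3 → F, ((Matrix.toLin' A.1) ^ r) x = x := by
    intro x
    rw [← Matrix.toLin'_pow, ← Matrix.SpecialLinearGroup.coe_pow, h.pow]
    simp
  refine fix_zero h.prim (g := Matrix.toLin' A.1) hpow (X := ⊤) (fun _ _ => trivial) (by simp) ?_ (x := v) trivial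
    (by rw [Matrix.toLin'_apply, hv])
  by_contra hcon
  push Not at hcon
  apply h.ne
  apply Subtype.ext
  ext i j
  have h1 := congrFun (hcon (Pi.single j 1) trivial) i
  rw [Matrix.toLin'_apply] at h1
  have h2 : A.1 i j = (Pi.single j 1 : Fin 3 → F) i := by simpa using h1
  rw [h2, Matrix.SpecialLinearGroup.coe_one, Matrix.one_apply, Pi.single_apply]

theorem irrA (U : Submodule F (Fin 3 → F)) (hU : ∀ v ∈ U, A.1 *ᵥ v ∈ U) : U = ⊥ ∨ U = ⊤ := by
  have hpow : ∀ x : Fin 3 → F, ((Matrix.toLin' A.1) ^ r) x = x := by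
    intro x
    rw [← Matrix.toLin'_pow, ← Matrix.SpecialLinearGroup.coe_pow, h.pow]
    simp
  exact inv_cases h.prim (g := Matrix.toLin' A.1) hpow (X := ⊤) (by simp)
    (fun x _ hx => h.fixA x (by rwa [Matrix.toLin'_apply] at hx)) le_top (fun v hv => by
      rw [Matrix.toLin'_apply]; exact hU v hv)

theorem fixB (v : Fin 3 → F) (hv : cofM A *ᵥ v = v) : v = 0 := by
  have h1 : A.1ᵀ *ᵥ v = v := by
    conv_lhs => rw [← hv]
    rw [Matrix.mulVec_mulVec, cofM_mul, Matrix.one_mulVec]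
  by_contra hv0
  have h2 : (A.1ᵀ - 1).det = 0 := Matrix.exists_mulVec_eq_zero_iff.1 ⟨v, hv0, by
    rw [Matrix.sub_mulVec, Matrix.one_mulVec, h1, sub_self]⟩
  have h3 : (A.1 - 1).det = 0 := by
    rw [← Matrix.det_transpose, Matrix.transpose_sub, Matrix.transpose_one]
    exact h2
  obtain ⟨w, hw0, hw⟩ := Matrix.exists_mulVec_eq_zero_iff.2 h3
  rw [Matrix.sub_mulVec, Matrix.one_mulVec, sub_eq_zero] at hw
  exact hw0 (h.fixA w hw)

/-- **the fixed space** -/
theorem mem_EE {x : V F} (hx : slM F A x = x) : x ∈ EE F := by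
  have h1 : pA F x = 0 := h.fixA _ (by rw [← pA_slM, hx])
  have h2 : pB F x = 0 := h.fixB _ (by rw [← pB_slM, hx])
  have h3 := decomp x
  rw [h1, h2, map_zero, map_zero, add_zero, add_zero] at h3
  rw [h3]
  exact pE_mem x

theorem slM_pow (x : V F) : (((slM F A : V F ≃ₗ[F] V F) : V F →ₗ[F] V F) ^ r) x = x := by
  have h1 : ∀ n : ℕ, (((slM F A : V F ≃ₗ[F] V F) : V F →ₗ[F] V F) ^ n) x = slM F (A ^ n) x := by
    intro n
    rw [map_pow]
    induction n with
    | zero => rfl
    | succ n ih => rw [pow_succ', pow_succ', Module.End.mul_apply, ih]; rfl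
  rw [h1, h.pow, map_one]
  rfl

section inv

variable {U : Submodule F (V F)} (hU : ∀ x ∈ U, slM F A x ∈ U)
include hU

/-- **invariant subspaces are stable under the projection** -/
theorem pE_mem' {x : V F} (hx : x ∈ U) : pE F x ∈ U := by
  have hr0 := cast_ne h.prim
  set g : V F →ₗ[F] V F := ((slM F A : V F ≃ₗ[F] V F) : V F →ₗ[F] V F) with hg
  have h0 : ∀ y ∈ W6 F, nrm g r y = 0 := by
    intro y hy
    apply EE_inf_W6
    · exact h.mem_EE (nrm_fixed (g := g) h.slM_pow y)
    · refine nrm_mem (g := g) (U := W6 F) (fun z hz => ?_) hy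
      change slM F A z ∈ W6 F
      rw [← pE_eq_zero, pE_slM, pE_eq_zero]
      exact hz
  have h1 : nrm g r x = (r : F) • pE F x := by
    have h2 : x = pE F x + (iA (pA F x) + iB (pB F x)) := by rw [← add_assoc]; exact decomp x
    conv_lhs => rw [h2]
    rw [map_add, h0 _ ((W6 F).add_mem (iA_mem_W6 _) (iB_mem_W6 _)), add_zero]
    exact nrm_of_fixed (slM_EE A (pE_mem x))
  have h3 : (r : F) • pE F x ∈ U := by
    rw [← h1]
    exact nrm_mem (g := g) (U := U) hU hx
  have h4 := U.smul_mem (r : F)⁻¹ h3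
  rwa [smul_smul, inv_mul_cancel₀ hr0, one_smul] at h4

/-- **the invariant subspaces of the complement** -/
theorem cases6 (hU6 : U ≤ W6 F) : U = ⊥ ∨ U = WA F ∨ U = WB F ∨ U = W6 F := by
  have hfix : ∀ x ∈ U, slM F A x = x → x = 0 := fun x hx hfx => EE_inf_W6 (h.mem_EE hfx) (hU6 hx)
  have h3 := three_dvd h.prim ((slM F A : V F ≃ₗ[F] V F) : V F →ₗ[F] V F) h.slM_pow U hU hfix
  have hle : finrank F U ≤ finrank F (W6 F) := Submodule.finrank_mono hU6
  rw [finrank_W6] at hle
  rcases (show finrank F U = 0 ∨ finrank F U = 6 ∨ finrank F U = 3 by omega) with h0 | h0 | h0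
  · exact Or.inl (Submodule.finrank_eq_zero.1 h0)
  · exact Or.inr (Or.inr (Or.inr (Submodule.eq_of_le_of_finrank_eq hU6 (by rw [h0, finrank_W6]))))
  · have hA : U ⊓ WA F = ⊥ ∨ U ⊓ WA F = WA F := by
      refine inv_cases h.prim (g := ((slM F A : V F ≃ₗ[F] V F) : V F →ₗ[F] V F)) h.slM_pow finrank_WA
        (fun x hx hfx => EE_inf_W6 (h.mem_EE hfx) (WA_le hx)) inf_le_right ?_
      rintro x ⟨hx, v, rfl⟩
      refine ⟨hU _ hx, A.1 *ᵥ v, ?_⟩
      exact (slM_iA A v).symm
    have hB : U ⊓ WB F = ⊥ ∨ U ⊓ WB F = WB F := by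
      refine inv_cases h.prim (g := ((slM F A : V F ≃ₗ[F] V F) : V F →ₗ[F] V F)) h.slM_pow finrank_WB
        (fun x hx hfx => EE_inf_W6 (h.mem_EE hfx) (WB_le hx)) inf_le_right ?_
      rintro x ⟨hx, v, rfl⟩
      refine ⟨hU _ hx, cofM A *ᵥ v, ?_⟩
      exact (slM_iB A v).symm
    rcases hA with hA | hA
    · rcases hB with hB | hB
      · exfalso
        -- the graph of an intertwiner
        let f : U →ₗ[F] (Fin 3 → F) := (pA F).comp U.subtype
        have hf : Function.Injective f := by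
          rw [← LinearMap.ker_eq_bot, LinearMap.ker_eq_bot']
          intro x hx
          have hx' : pA F (x : V F) = 0 := hx
          have h1 : (x : V F) ∈ U ⊓ WB F := by
            refine ⟨x.2, pB F x, ?_⟩
            have h2 := eq_of_W6 (hU6 x.2)
            rw [hx', map_zero, zero_add] at h2
            exact h2.symm
          rw [hB, Submodule.mem_bot] at h1
          exact Subtype.ext h1
        let e : U ≃ₗ[F] (Fin 3 → F) := LinearMap.linearEquivOfInjective f hf (by rw [h0]; simp)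
        have he : ∀ x, e x = pA F (x : V F) := fun x => rfl
        let φ : (Fin 3 → F) →ₗ[F] (Fin 3 → F) := ((pB F).comp U.subtype).comp (e.symm : (Fin 3 → F) →ₗ[F] U)
        have hφ : ∀ a, φ (A.1 *ᵥ a) = cofM A *ᵥ φ a := by
          intro a
          have h1 : e.symm (A.1 *ᵥ a) = ⟨slM F A (e.symm a : V F), hU _ (e.symm a).2⟩ := by
            apply e.injective
            rw [LinearEquiv.apply_symm_apply, he]
            change A.1 *ᵥ a = pA F (slM F A (e.symm a : V F))
            rw [pA_slM, ← he, LinearEquiv.apply_symm_apply]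
          change pB F ((e.symm (A.1 *ᵥ a) : U) : V F) = _
          rw [h1]
          change pB F (slM F A (e.symm a : V F)) = _
          rw [pB_slM]
          rfl
        have hJ : LinearMap.toMatrix' φ = 0 := by
          apply no_form A.2 h.fixA h.irrA
          have h1 : LinearMap.toMatrix' φ * A.1 = cofM A * LinearMap.toMatrix' φ := by
            apply Matrix.toLin'.injective
            apply LinearMap.ext
            intro a
            rw [Matrix.toLin'_mul, Matrix.toLin'_mul, LinearMap.comp_apply, LinearMap.comp_apply,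
              Matrix.toLin'_toMatrix', Matrix.toLin'_apply, Matrix.toLin'_apply]
            exact hφ a
          rw [Matrix.mul_assoc, h1, ← Matrix.mul_assoc, cofM_mul, Matrix.one_mul]
        have hφ0 : φ = 0 := by
          apply LinearMap.toMatrix'.injective
          rw [hJ, map_zero]
        have hUA : U ≤ WA F := by
          intro x hx
          have h1 : pB F x = 0 := by
            have h2 : φ (e ⟨x, hx⟩) = pB F x := by
              change pB F ((e.symm (e ⟨x, hx⟩) : U) : V F) = _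
              rw [LinearEquiv.symm_apply_apply]
            rw [← h2, hφ0]
            rfl
          refine ⟨pA F x, ?_⟩
          have h2 := eq_of_W6 (hU6 hx)
          rw [h1, map_zero, add_zero] at h2
          exact h2.symm
        rw [inf_eq_left.2 hUA] at hA
        rw [hA, finrank_bot] at h0
        omega
      · right; right; left
        exact (Submodule.eq_of_le_of_finrank_eq (inf_eq_right.1 hB) (by rw [finrank_WB, h0])).symm
    · right; left
      exact (Submodule.eq_of_le_of_finrank_eq (inf_eq_right.1 hA) (by rw [finrank_WA, h0])).symm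

end inv

end Tor

end Cfsg.Agent.H244.G2S
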