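import Cfsg.Agent.H161.OctFix
import Cfsg.Agent.H244.G2S.OctE

/-!
# Subgroups of the automorphism group of the octonions containing a torus element (helper244)
-/

set_option autoImplicit false

namespace Cfsg.Agent.H244.G2S

open Module Matrix Cfsg.Lie Cfsg.Agent.H161.Oct
open Cfsg.Agent.H436 (Prim)

variable {F : Type*} [Field F]

/-- `K` stabilises `U` -/
def Stb (K : Subgroup (V F ≃ₗ[F] V F)) (U : Submodule F (V F)) : Prop := ∀ g ∈ K, ∀ x ∈ U, g x ∈ U

theorem zorn_iA (a c : Fin 3 → F) : zornMul (iA a) (iA c) =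
    iB ![a 1 * c 2 - a 2 * c 1, a 2 * c 0 - a 0 * c 2, a 0 * c 1 - a 1 * c 0] := by
  rw [iA_apply, iA_apply, iB_apply]
  apply ext8 <;> simp [mul0, mul1, mul2, mul3, mul4, mul5, mul6, mul7]

theorem zorn_iB (a c : Fin 3 → F) : zornMul (iB a) (iB c) =
    iA ![-(a 1 * c 2 - a 2 * c 1), -(a 2 * c 0 - a 0 * c 2), -(a 0 * c 1 - a 1 * c 0)] := by
  rw [iB_apply, iB_apply, iA_apply]
  apply ext8 <;> simp [mul0, mul1, mul2, mul3, mul4, mul5, mul6, mul7]

theorem bl_iA (y : V F) (v : Fin 3 → F) : bl y (iA v) = -(y 4 * v 0 + y 5 * v 1 + y 6 * v 2) := by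
  rw [iA_apply]
  simp [bl]
  ring

theorem bl_iB (y : V F) (v : Fin 3 → F) : bl y (iB v) = -(y 1 * v 0 + y 2 * v 1 + y 3 * v 2) := by
  rw [iB_apply]
  simp [bl]

theorem bl_EE_W6 {x w : V F} (hx : x ∈ EE F) (hw : w ∈ W6 F) : bl x w = 0 := by
  obtain ⟨h1, h2, h3, h4, h5, h6⟩ := hx
  obtain ⟨k1, k2⟩ := hw
  simp [bl, h1, h2, h3, h4, h5, h6, k1, k2]

section K

variable {K : Subgroup (V F ≃ₗ[F] V F)} (hK : K ≤ AutO F)
include hK

/-- the complement -/
theorem stb_EE_of_W6 (h : Stb K (W6 F)) : Stb K (EE F) := by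
  intro g hg x hx
  have key : ∀ w ∈ W6 F, bl (g x) w = 0 := by
    intro w hw
    have h1 : g (g⁻¹ w) = w := g.apply_symm_apply w
    rw [← h1, map_bl (hK hg)]
    exact bl_EE_W6 hx (h _ (K.inv_mem hg) w hw)
  have e4 := key _ (iA_mem_W6 (Pi.single 0 1))
  have e5 := key _ (iA_mem_W6 (Pi.single 1 1))
  have e6 := key _ (iA_mem_W6 (Pi.single 2 1))
  have e1 := key _ (iB_mem_W6 (Pi.single 0 1))
  have e2 := key _ (iB_mem_W6 (Pi.single 1 1))
  have e3 := key _ (iB_mem_W6 (Pi.single 2 1))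
  rw [bl_iA] at e4 e5 e6
  rw [bl_iB] at e1 e2 e3
  exact ⟨by simpa using e1, by simpa using e2, by simpa using e3, by simpa using e4, by simpa using e5,
    by simpa using e6⟩

omit hK in
theorem stb_sup {U U' : Submodule F (V F)} (h : Stb K U) (h' : Stb K U') : Stb K (U ⊔ U') := by
  intro g hg x hx
  obtain ⟨y, hy, z, hz, rfl⟩ := Submodule.mem_sup.1 hx
  rw [map_add]
  exact Submodule.add_mem_sup (h g hg y hy) (h' g hg z hz)

/-- the other isotropic subspace -/
theorem stb_WB_of_WA (h : Stb K (WA F)) : Stb K (WB F) := by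
  rintro g hg _ ⟨v, rfl⟩
  have key : ∀ a c : Fin 3 → F, g (zornMul (iA a) (iA c)) ∈ WB F := by
    intro a c
    rw [mem_AutO.1 (hK hg)]
    obtain ⟨a', ha'⟩ := h g hg (iA a) ⟨a, rfl⟩
    obtain ⟨c', hc'⟩ := h g hg (iA c) ⟨c, rfl⟩
    rw [← ha', ← hc', zorn_iA]
    exact ⟨_, rfl⟩
  have hv : iB v = v 0 • zornMul (iA (Pi.single 1 1)) (iA (Pi.single 2 1)) +
      v 1 • zornMul (iA (Pi.single 2 1)) (iA (Pi.single 0 1)) +
      v 2 • zornMul (iA (Pi.single 0 1)) (iA (Pi.single 1 1)) := by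
    rw [zorn_iA, zorn_iA, zorn_iA, iB_apply, iB_apply, iB_apply, iB_apply]
    apply ext8 <;> simp
  rw [hv, map_add, map_add, map_smul, map_smul, map_smul]
  exact (WB F).add_mem ((WB F).add_mem ((WB F).smul_mem _ (key _ _)) ((WB F).smul_mem _ (key _ _)))
    ((WB F).smul_mem _ (key _ _))

theorem stb_WA_of_WB (h : Stb K (WB F)) : Stb K (WA F) := by
  rintro g hg _ ⟨v, rfl⟩
  have key : ∀ a c : Fin 3 → F, g (zornMul (iB a) (iB c)) ∈ WA F := by
    intro a c
    rw [mem_AutO.1 (hK hg)]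
    obtain ⟨a', ha'⟩ := h g hg (iB a) ⟨a, rfl⟩
    obtain ⟨c', hc'⟩ := h g hg (iB c) ⟨c, rfl⟩
    rw [← ha', ← hc', zorn_iB]
    exact ⟨_, rfl⟩
  have hv : iA v = (-v 0) • zornMul (iB (Pi.single 1 1)) (iB (Pi.single 2 1)) +
      (-v 1) • zornMul (iB (Pi.single 2 1)) (iB (Pi.single 0 1)) +
      (-v 2) • zornMul (iB (Pi.single 0 1)) (iB (Pi.single 1 1)) := by
    rw [zorn_iB, zorn_iB, zorn_iB, iA_apply, iA_apply, iA_apply, iA_apply]
    apply ext8 <;> simp
  rw [hv, map_add, map_add, map_smul, map_smul, map_smul]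
  exact (WA F).add_mem ((WA F).add_mem ((WA F).smul_mem _ (key _ _)) ((WA F).smul_mem _ (key _ _)))
    ((WA F).smul_mem _ (key _ _))

theorem stb_EE_of_WA (h : Stb K (WA F)) : Stb K (EE F) := by
  apply stb_EE_of_W6 hK
  rw [W6_eq]
  exact stb_sup h (stb_WB_of_WA hK h)

theorem stb_EE_of_WB (h : Stb K (WB F)) : Stb K (EE F) := by
  apply stb_EE_of_W6 hK
  rw [W6_eq]
  exact stb_sup (stb_WA_of_WB hK h) h

/-- singular vectors -/
theorem stb_of_sing {U X : Submodule F (V F)} (h : Stb K U) (hX : X ≤ U) (hX0 : ∀ x ∈ X, nm x = 0)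
    (hU : ∀ x ∈ U, nm x = 0 → x ∈ X) : Stb K X := by
  intro g hg x hx
  apply hU _ (h g hg x (hX hx))
  rw [map_nm (hK hg)]
  exact hX0 x hx

/-- the vector of trace zero in `EE` -/
def l0 (F : Type*) [Field F] : V F := ![1, 0, 0, 0, 0, 0, 0, -1]

omit hK in
theorem pE_eq_l0 {x : V F} (hx : tr x = 0) : pE F x = x 0 • l0 F := by
  have h1 : x 7 = - x 0 := by
    unfold tr at hx
    linear_combination hx
  rw [pE_apply, l0]
  apply ext8 <;> simp [h1]

variable [Finite F] {A : Matrix.SpecialLinearGroup (Fin 3) F} {r : ℕ} (h : Tor A r) (hs : slM F A ∈ K)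
include h hs

/-- **invariant subspaces of the vectors of trace zero** -/
theorem main_cases {U : Submodule F (V F)} (hU : Stb K U) (hU7 : ∀ x ∈ U, tr x = 0) :
    Stb K (EE F) ∨ (∀ x, tr x = 0 → x ∈ U) ∨ ∀ x ∈ U, ∃ c : F, x = c • l0 F := by
  have hsU : ∀ x ∈ U, slM F A x ∈ U := hU _ hs
  have hE : ∀ {x : V F}, x ∈ U → pE F x ∈ U := fun hx => h.pE_mem' hsU hx
  have hsub : ∀ x ∈ U, x - pE F x ∈ U ⊓ W6 F := by
    intro x hx
    refine ⟨U.sub_mem hx (hE hx), ?_⟩
    rw [SetLike.mem_coe, ← pE_eq_zero, map_sub, pE_of_mem (pE_mem x), sub_self]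
  have hinv : ∀ x ∈ U ⊓ W6 F, slM F A x ∈ U ⊓ W6 F := by
    rintro x ⟨hx, hx6⟩
    refine ⟨hsU x hx, ?_⟩
    rw [SetLike.mem_coe, ← pE_eq_zero, pE_slM, pE_eq_zero]
    exact hx6
  have hnm : ∀ x ∈ U, (pA F x = 0 ∨ pB F x = 0) → nm x = 0 → pE F x = 0 := by
    intro x hx hpx hn
    have h1 : x 7 = - x 0 := by
      have := hU7 x hx
      unfold tr at this
      linear_combination this
    have h2 : x 1 * x 4 + x 2 * x 5 + x 3 * x 6 = 0 := by
      rcases hpx with hp | hp
      · rw [pA_apply] at hp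
        have e1 : x 1 = 0 := congrFun hp 0
        have e2 : x 2 = 0 := congrFun hp 1
        have e3 : x 3 = 0 := congrFun hp 2
        rw [e1, e2, e3]; ring
      · rw [pB_apply] at hp
        have e1 : x 4 = 0 := congrFun hp 0
        have e2 : x 5 = 0 := congrFun hp 1
        have e3 : x 6 = 0 := congrFun hp 2
        rw [e1, e2, e3]; ring
    unfold nm at hn
    rw [h2, h1] at hn
    have h3 : x 0 = 0 := by
      have : x 0 ^ 2 = 0 := by linear_combination -hn
      exact pow_eq_zero_iff (two_ne_zero) |>.1 this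
    rw [pE_eq_l0 (hU7 x hx), h3, zero_smul]
  rcases h.cases6 hinv inf_le_right with h0 | h0 | h0 | h0
  · right; right
    intro x hx
    have h1 := hsub x hx
    rw [h0, Submodule.mem_bot, sub_eq_zero] at h1
    exact ⟨x 0, by rw [← pE_eq_l0 (hU7 x hx)]; exact h1⟩
  · left
    apply stb_EE_of_WA hK
    apply stb_of_sing hK hU (by rw [← h0]; exact inf_le_left)
    · rintro _ ⟨v, rfl⟩
      rw [iA_apply]
      simp [nm]
    · intro x hx hn
      have h1 := hsub x hx
      rw [h0] at h1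
      obtain ⟨v, hv⟩ := h1
      have h2 : pB F x = 0 := by
        have h3 : x = iA v + pE F x := by rw [hv, sub_add_cancel]
        rw [h3, map_add, pB_iA, pB_EE (pE_mem x), add_zero]
      rw [hnm x hx (Or.inr h2) hn, sub_zero] at hv
      exact ⟨v, hv⟩
  · left
    apply stb_EE_of_WB hK
    apply stb_of_sing hK hU (by rw [← h0]; exact inf_le_left)
    · rintro _ ⟨v, rfl⟩
      rw [iB_apply]
      simp [nm]
    · intro x hx hn
      have h1 := hsub x hx
      rw [h0] at h1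
      obtain ⟨v, hv⟩ := h1
      have h2 : pA F x = 0 := by
        have h3 : x = iB v + pE F x := by rw [hv, sub_add_cancel]
        rw [h3, map_add, pA_iB, pA_EE (pE_mem x), add_zero]
      rw [hnm x hx (Or.inl h2) hn, sub_zero] at hv
      exact ⟨v, hv⟩
  · have hW : W6 F ≤ U := by rw [← h0]; exact inf_le_left
    by_cases hUW : U ≤ W6 F
    · left
      apply stb_EE_of_W6 hK
      rwa [le_antisymm hW hUW]
    · right; left
      obtain ⟨x, hx, hx6⟩ := SetLike.not_le_iff_exists.1 hUW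
      have hl : l0 F ∈ U := by
        have h1 := hE hx
        rw [pE_eq_l0 (hU7 x hx)] at h1
        have h2 : x 0 ≠ 0 := by
          intro h3
          apply hx6
          rw [← pE_eq_zero, pE_eq_l0 (hU7 x hx), h3, zero_smul]
        have h3 := U.smul_mem (x 0)⁻¹ h1
        rwa [smul_smul, inv_mul_cancel₀ h2, one_smul] at h3
      intro y hy
      rw [decomp y, pE_eq_l0 hy]
      exact U.add_mem (U.add_mem (U.smul_mem _ hl) (hW (iA_mem_W6 _))) (hW (iB_mem_W6 _))

end K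

/-! ### the stabiliser -/

/-- the stabiliser of the subalgebra -/
def MM (F : Type*) [Field F] : Subgroup (V F ≃ₗ[F] V F) where
  carrier := {g | ∀ x, g x ∈ EE F ↔ x ∈ EE F}
  one_mem' := fun x => Iff.rfl
  mul_mem' {g h} hg hh := fun x => by
    change g (h x) ∈ EE F ↔ x ∈ EE F
    rw [hg, hh]
  inv_mem' {g} hg := fun x => by
    have h1 : g (g⁻¹ x) = x := g.apply_symm_apply x
    rw [← hg (g⁻¹ x), h1]

theorem le_MM {K : Subgroup (V F ≃ₗ[F] V F)} : K ≤ MM F ↔ Stb K (EE F) := by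
  constructor
  · intro h g hg x hx
    exact (h hg x).2 hx
  · intro h g hg x
    refine ⟨fun hx => ?_, fun hx => h g hg x hx⟩
    have h1 := h g⁻¹ (K.inv_mem hg) _ hx
    have h2 : g⁻¹ (g x) = x := g.symm_apply_apply x
    rwa [h2] at h1

theorem not_AutO_le : ¬ AutO F ≤ MM F := by
  rw [le_MM]
  intro h
  have h1 := h _ (tau_mem (![1, 0, 0] : Fin 3 → F)) e1 (by rw [mem_EE]; simp [e1])
  have h2 := (mem_EE.1 h1).1
  rw [tau_apply, tau1] at h2
  simp [e1] at h2

section simple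

variable {K S : Subgroup (V F ≃ₗ[F] V F)} (hK : K ≤ AutO F) (hSK : S ≤ K)
include hK hSK

/-- the images of the idempotent -/
theorem idem_cases (hSE : Stb S (EE F)) {g : V F ≃ₗ[F] V F} (hg : g ∈ S) : g e1 = e1 ∨ g e1 = o - e1 := by
  have h1 : g e1 ∈ EE F := hSE g hg e1 (by rw [mem_EE]; simp [e1])
  have h2 : zornMul (g e1) (g e1) = g e1 := by
    rw [← mem_AutO.1 (hK (hSK hg))]
    congr 1
    apply ext8 <;> simp [mul0, mul1, mul2, mul3, mul4, mul5, mul6, mul7, e1]
  have h3 : tr (g e1) = 1 := by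
    rw [map_tr (hK (hSK hg))]
    simp [tr, e1]
  generalize g e1 = y at h1 h2 h3
  obtain ⟨k1, k2, k3, k4, k5, k6⟩ := mem_EE.1 h1
  have h4 := congrFun h2 0
  rw [mul0, k1, k2, k3] at h4
  have h5 : y 0 * (y 0 - 1) = 0 := by linear_combination h4
  unfold tr at h3
  rcases mul_eq_zero.1 h5 with h6 | h6
  · right
    have h7 : y 7 = 1 := by rw [h6, zero_add] at h3; exact h3
    apply ext8 <;> simp [h6, h7, k1, k2, k3, k4, k5, k6, e1, o]
  · left
    have h6' : y 0 = 1 := sub_eq_zero.1 h6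
    have h7 : y 7 = 0 := by rw [h6'] at h3; linear_combination h3
    apply ext8 <;> simp [h6', h7, k1, k2, k3, k4, k5, k6, e1]

/-- a simple group stabilising the subalgebra fixes it -/
theorem fix_of_stb [IsSimpleGroup S] (hna : ∃ a ∈ S, ∃ b ∈ S, a * b ≠ b * a) (hSE : Stb S (EE F))
    {g : V F ≃ₗ[F] V F} (hg : g ∈ S) {x : V F} (hx : x ∈ EE F) : g x = x := by
  let N : Subgroup S :=
    { carrier := {g | (g : V F ≃ₗ[F] V F) e1 = e1}
      one_mem' := rfl
      mul_mem' := by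
        intro a b ha hb
        have ha' : (a : V F ≃ₗ[F] V F) e1 = e1 := ha
        have hb' : (b : V F ≃ₗ[F] V F) e1 = e1 := hb
        change (a : V F ≃ₗ[F] V F) ((b : V F ≃ₗ[F] V F) e1) = e1
        rw [hb', ha']
      inv_mem' := by
        intro a ha
        have ha' : (a : V F ≃ₗ[F] V F) e1 = e1 := ha
        change (a : V F ≃ₗ[F] V F).symm e1 = e1
        rw [LinearEquiv.symm_apply_eq]
        exact ha'.symm }
  have hmem : ∀ g : S, g ∈ N ↔ (g : V F ≃ₗ[F] V F) e1 = e1 := fun g => Iff.rfl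
  have hNn : N.Normal := by
    refine ⟨fun g hg k => ?_⟩
    have hg' : (g : V F ≃ₗ[F] V F) e1 = e1 := hg
    have hgo : (g : V F ≃ₗ[F] V F) (o - e1) = o - e1 := by
      rw [map_sub, map_o (hK (hSK g.2)), hg']
    rw [hmem]
    have h1 : (k : V F ≃ₗ[F] V F) ((k : V F ≃ₗ[F] V F)⁻¹ e1) = e1 := (k : V F ≃ₗ[F] V F).apply_symm_apply e1
    change (k : V F ≃ₗ[F] V F) ((g : V F ≃ₗ[F] V F) ((k : V F ≃ₗ[F] V F)⁻¹ e1)) = e1
    rcases idem_cases hK hSK hSE (S.inv_mem k.2) with h2 | h2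
    · rw [h2] at h1 ⊢
      rw [hg', h1]
    · rw [h2] at h1 ⊢
      rw [hgo, h1]
  have hNtop : N = ⊤ := by
    rcases hNn.eq_bot_or_eq_top with h0 | h0
    · exfalso
      have hsq : ∀ g : S, g * g = 1 := by
        intro g
        have h1 : g * g ∈ N := by
          rw [hmem]
          change (g : V F ≃ₗ[F] V F) ((g : V F ≃ₗ[F] V F) e1) = e1
          rcases idem_cases hK hSK hSE g.2 with h2 | h2
          · rw [h2, h2]
          · rw [h2, map_sub, map_o (hK (hSK g.2)), h2]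
            abel
        rw [h0, Subgroup.mem_bot] at h1
        exact h1
      obtain ⟨a, ha, b, hb, hab⟩ := hna
      apply hab
      have h1 : ∀ g ∈ S, g * g = 1 := by
        intro g hg
        exact congrArg Subtype.val (hsq ⟨g, hg⟩)
      have h2 := h1 a ha
      have h3 := h1 b hb
      have h4 := h1 (a * b) (S.mul_mem ha hb)
      calc a * b = (b * b) * (a * b) * (a * a) := by rw [h2, h3]; group
        _ = b * ((b * a) * (b * a)) * a := by group
        _ = b * a := by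
          rw [h1 (b * a) (S.mul_mem hb ha)]
          group
    · exact h0
  have hge : g e1 = e1 := by
    have h1 : (⟨g, hg⟩ : S) ∈ N := by rw [hNtop]; exact Subgroup.mem_top _
    exact h1
  have hx2 : x = x 0 • e1 + x 7 • (o - e1) := by
    obtain ⟨k1, k2, k3, k4, k5, k6⟩ := mem_EE.1 hx
    apply ext8 <;> simp [k1, k2, k3, k4, k5, k6, e1, o]
  rw [hx2, map_add, map_smul, map_smul, map_sub, hge, map_o (hK (hSK hg))]

/-- **the second case** -/
theorem stb_of_simple [IsSimpleGroup S] (hna : ∃ a ∈ S, ∃ b ∈ S, a * b ≠ b * a)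
    (hn : ∀ k ∈ K, ∀ g ∈ S, k⁻¹ * g * k ∈ S) [Finite F] {A : Matrix.SpecialLinearGroup (Fin 3) F} {r : ℕ}
    (h : Tor A r) (hs : slM F A ∈ S) (hSE : Stb S (EE F)) : Stb K (EE F) := by
  intro k hk x hx
  apply h.mem_EE
  have h1 := fix_of_stb hK hSK hna hSE (hn k hk _ hs) hx
  have h2 : k ((k⁻¹ * slM F A * k) x) = k x := by rw [h1]
  have h3 : k ((k⁻¹ * slM F A * k) x) = slM F A (k x) := k.apply_symm_apply _
  rwa [h3] at h2

end simple

section cyc

variable {K : Subgroup (V F ≃ₗ[F] V F)} [Finite F] {A : Matrix.SpecialLinearGroup (Fin 3) F} {r : ℕ}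
  (h : Tor A r)
include h

/-- a non-trivial matrix commuting with `A` fixes nothing outside the subalgebra -/
theorem mem_EE_of_comm {B : Matrix.SpecialLinearGroup (Fin 3) F} (hB : B ≠ 1) (hAB : A * B = B * A) {x : V F}
    (hx : slM F B x = x) : x ∈ EE F := by
  let U : Submodule F (V F) := LinearMap.ker (((slM F B : V F ≃ₗ[F] V F) : V F →ₗ[F] V F) - LinearMap.id)
  have hU : ∀ y, y ∈ U ↔ slM F B y = y := by
    intro y
    rw [LinearMap.mem_ker, LinearMap.sub_apply, sub_eq_zero]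
    rfl
  have hsU : ∀ y ∈ U, slM F A y ∈ U := by
    intro y hy
    rw [hU] at hy ⊢
    have h1 : slM F B (slM F A y) = slM F A (slM F B y) := by
      have h2 : slM F B * slM F A = slM F A * slM F B := by rw [← map_mul, ← map_mul, hAB]
      exact congrArg (fun f : V F ≃ₗ[F] V F => f y) h2
    rw [h1, hy]
  have hBne : ∀ W : Submodule F (V F), (W = WA F ∨ W = WB F ∨ W = W6 F) → ¬ W ≤ U := by
    intro W hW hle
    apply hB
    have hAA : (∀ v, slM F B (iA v) = iA v) → B = 1 := by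
      intro hv
      apply Subtype.ext
      ext i j
      have h1 := hv (Pi.single j 1)
      rw [slM_iA] at h1
      have h2 := congrFun (iA_inj h1) i
      have h3 : B.1 i j = (Pi.single j 1 : Fin 3 → F) i := by simpa using h2
      rw [h3, Matrix.SpecialLinearGroup.coe_one, Matrix.one_apply, Pi.single_apply]
    rcases hW with rfl | rfl | rfl
    · exact hAA fun v => (hU _).1 (hle ⟨v, rfl⟩)
    · have h1 : ∀ v, cofM B *ᵥ v = v := by
        intro v
        have h1 := (hU _).1 (hle ⟨v, rfl⟩)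
        rw [slM_iB] at h1
        exact iB_inj h1
      have h2 : cofM B = 1 := by
        ext i j
        have h3 := congrFun (h1 (Pi.single j 1)) i
        have h4 : cofM B i j = (Pi.single j 1 : Fin 3 → F) i := by simpa using h3
        rw [h4, Matrix.one_apply, Pi.single_apply]
      have h3 := cofM_mul B
      rw [h2, Matrix.mul_one] at h3
      apply Subtype.ext
      have h4 := congrArg Matrix.transpose h3
      rw [Matrix.transpose_transpose, Matrix.transpose_one] at h4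
      rw [h4, Matrix.SpecialLinearGroup.coe_one]
    · exact hAA fun v => (hU _).1 (hle (iA_mem_W6 v))
  have hbot : U ⊓ W6 F = ⊥ := by
    rcases h.cases6 (U := U ⊓ W6 F) (by
      rintro y ⟨hy, hy6⟩
      refine ⟨hsU y hy, ?_⟩
      rw [SetLike.mem_coe, ← pE_eq_zero, pE_slM, pE_eq_zero]
      exact hy6) inf_le_right with h0 | h0 | h0 | h0
    · exact h0
    · exact absurd (by rw [← h0]; exact inf_le_left) (hBne _ (Or.inl rfl))
    · exact absurd (by rw [← h0]; exact inf_le_left) (hBne _ (Or.inr (Or.inl rfl)))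
    · exact absurd (by rw [← h0]; exact inf_le_left) (hBne _ (Or.inr (Or.inr rfl)))
  have h1 : x - pE F x ∈ U ⊓ W6 F := by
    refine ⟨?_, ?_⟩
    · refine U.sub_mem ((hU x).2 hx) ?_
      rw [hU]
      exact slM_EE B (pE_mem x)
    · rw [SetLike.mem_coe, ← pE_eq_zero, map_sub, pE_of_mem (pE_mem x), sub_self]
  rw [hbot, Submodule.mem_bot, sub_eq_zero] at h1
  rw [h1]
  exact pE_mem x

/-- **the first case** -/
theorem stb_of_cyc {N : Subgroup (V F ≃ₗ[F] V F)} (hn : ∀ k ∈ K, ∀ g ∈ N, k⁻¹ * g * k ∈ N)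
    {B : Matrix.SpecialLinearGroup (Fin 3) F} (hB : B ≠ 1) (hAB : A * B = B * A) (hBN : slM F B ∈ N)
    (hN : ∀ g ∈ N, ∃ C : Matrix.SpecialLinearGroup (Fin 3) F, g = slM F C) : Stb K (EE F) := by
  intro k hk x hx
  apply mem_EE_of_comm h hB hAB
  obtain ⟨C, hC⟩ := hN _ (hn k hk _ hBN)
  have h1 : (k⁻¹ * slM F B * k) x = x := by
    rw [hC]
    exact slM_EE C hx
  have h2 : k ((k⁻¹ * slM F B * k) x) = k x := by rw [h1]
  have h3 : k ((k⁻¹ * slM F B * k) x) = slM F B (k x) := k.apply_symm_apply _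
  rwa [h3] at h2

end cyc

end Cfsg.Agent.H244.G2S
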