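import Cfsg.Agent.H244.G2S.OctK
import Cfsg.Prelude.Def_GeometricClasses

/-!
# The subquotients of degree 7 (odd characteristic) and 6 (characteristic two) (helper244)
-/

set_option autoImplicit false

namespace Cfsg.Agent.H244.G2S

open Module Matrix Cfsg.Lie Cfsg.Agent.H161.Oct
open Cfsg.Agent.H436 (Prim)

/-- a subquotient of the space of the vectors of trace zero -/
structure SubQ (F : Type*) [Field F] (ι : Type) where
  inc : (ι → F) →ₗ[F] V F
  prj : V F →ₗ[F] (ι → F)
  prj_inc : ∀ y, prj (inc y) = y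
  tr_inc : ∀ y, tr (inc y) = 0
  key : ∀ g ∈ AutO F, ∀ x, tr x = 0 → prj (g (inc (prj x))) = prj (g x)
  key2 : ∀ x y, tr x = 0 → tr y = 0 → bl (inc (prj x)) y = bl x y
  nondeg : ∀ y, (∀ y', bl (inc y) (inc y') = 0) → y = 0
  l0 : prj (l0 F) = 0 ∨ (2 : F) ≠ 0

section mk

variable (F : Type*) [Field F]

/-- degree seven -/
def inc7 : (Fin 7 → F) →ₗ[F] V F where
  toFun y := ![y 0, y 1, y 2, y 3, y 4, y 5, y 6, -y 0]
  map_add' x y := by apply ext8 <;> simp; ring
  map_smul' c x := by apply ext8 <;> simp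

def prj7 : V F →ₗ[F] (Fin 7 → F) where
  toFun x := ![x 0, x 1, x 2, x 3, x 4, x 5, x 6]
  map_add' x y := by ext i; fin_cases i <;> rfl
  map_smul' c x := by ext i; fin_cases i <;> rfl

/-- degree six -/
def inc6 : (Fin 6 → F) →ₗ[F] V F where
  toFun y := ![0, y 0, y 1, y 2, y 3, y 4, y 5, 0]
  map_add' x y := by apply ext8 <;> simp
  map_smul' c x := by apply ext8 <;> simp

def prj6 : V F →ₗ[F] (Fin 6 → F) where
  toFun x := ![x 1, x 2, x 3, x 4, x 5, x 6]
  map_add' x y := by ext i; fin_cases i <;> rfl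
  map_smul' c x := by ext i; fin_cases i <;> rfl

variable {F}

theorem inc7_apply (y : Fin 7 → F) : inc7 F y = ![y 0, y 1, y 2, y 3, y 4, y 5, y 6, -y 0] := rfl
theorem prj7_apply (x : V F) : prj7 F x = ![x 0, x 1, x 2, x 3, x 4, x 5, x 6] := rfl
theorem inc6_apply (y : Fin 6 → F) : inc6 F y = ![0, y 0, y 1, y 2, y 3, y 4, y 5, 0] := rfl
theorem prj6_apply (x : V F) : prj6 F x = ![x 1, x 2, x 3, x 4, x 5, x 6] := rfl

theorem inc_prj7 {x : V F} (hx : tr x = 0) : inc7 F (prj7 F x) = x := by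
  have h1 : - x 0 = x 7 := by
    unfold tr at hx
    linear_combination -hx
  rw [inc7_apply, prj7_apply]
  apply ext8 <;> simp [h1]

/-- **degree seven** -/
def sub7 (h2 : (2 : F) ≠ 0) : SubQ F (Fin 7) where
  inc := inc7 F
  prj := prj7 F
  prj_inc y := by
    rw [inc7_apply, prj7_apply]
    ext i; fin_cases i <;> rfl
  tr_inc y := by
    rw [inc7_apply]
    simp [tr]
  key g hg x hx := by rw [inc_prj7 hx]
  key2 x y hx hy := by rw [inc_prj7 hx]
  nondeg y hy := by
    have key : ∀ i : Fin 7, bl (inc7 F y) (inc7 F (Pi.single i 1)) = 0 := fun i => hy _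
    have e0 := key 0
    have e1 := key 1
    have e2 := key 2
    have e3 := key 3
    have e4 := key 4
    have e5 := key 5
    have e6 := key 6
    simp only [inc7_apply, bl] at e0 e1 e2 e3 e4 e5 e6
    simp at e0 e1 e2 e3 e4 e5 e6
    ext i
    fin_cases i
    · have h3 : (2 : F) * y 0 = 0 := by linear_combination -e0
      exact (mul_eq_zero.1 h3).resolve_left h2
    · simpa using e4
    · simpa using e5
    · simpa using e6
    · simpa using e1
    · simpa using e2
    · simpa using e3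
  l0 := Or.inr h2

theorem pE_char_two (h2 : (2 : F) = 0) {x : V F} (hx : tr x = 0) : pE F x = x 0 • o := by
  have h1 : x 7 = x 0 := by
    unfold tr at hx
    linear_combination hx - x 0 * h2
  rw [pE_apply]
  apply ext8 <;> simp [h1, o]

theorem inc_prj6 {x : V F} (h2 : (2 : F) = 0) (hx : tr x = 0) : inc6 F (prj6 F x) + x 0 • o = x := by
  have h1 : x 0 = x 7 := by
    unfold tr at hx
    linear_combination -hx + x 0 * h2
  rw [inc6_apply, prj6_apply]
  apply ext8 <;> simp [o, h1]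

/-- **degree six** -/
def sub6 (h2 : (2 : F) = 0) : SubQ F (Fin 6) where
  inc := inc6 F
  prj := prj6 F
  prj_inc y := by
    rw [inc6_apply, prj6_apply]
    ext i; fin_cases i <;> rfl
  tr_inc y := by
    rw [inc6_apply]
    simp [tr]
  key g hg x hx := by
    conv_rhs => rw [← inc_prj6 h2 hx]
    rw [map_add, map_smul, map_o hg, map_add, map_smul]
    have h3 : prj6 F (o : V F) = 0 := by
      rw [prj6_apply]
      ext i; fin_cases i <;> rfl
    rw [h3, smul_zero, add_zero]
  key2 x y hx hy := by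
    conv_rhs => rw [← inc_prj6 h2 hx]
    rw [bl_add', bl_smul', bl_comm o y, bl_o, hy, mul_zero, add_zero]
  nondeg y hy := by
    have key : ∀ i : Fin 6, bl (inc6 F y) (inc6 F (Pi.single i 1)) = 0 := fun i => hy _
    have e0 := key 0
    have e1 := key 1
    have e2 := key 2
    have e3 := key 3
    have e4 := key 4
    have e5 := key 5
    simp only [inc6_apply, bl] at e0 e1 e2 e3 e4 e5
    simp at e0 e1 e2 e3 e4 e5
    ext i
    fin_cases i
    · simpa using e3
    · simpa using e4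
    · simpa using e5
    · simpa using e0
    · simpa using e1
    · simpa using e2
  l0 := by
    left
    rw [prj6_apply]
    ext i; fin_cases i <;> simp [G2S.l0]

end mk

namespace SubQ

variable {F : Type*} [Field F] {ι : Type} (Q : SubQ F ι)

theorem bl_key {x y : V F} (hx : tr x = 0) (hy : tr y = 0) : bl (Q.inc (Q.prj x)) (Q.inc (Q.prj y)) = bl x y := by
  rw [Q.key2 x _ hx (Q.tr_inc _), bl_comm, Q.key2 y x hy hx, bl_comm]

/-- the representation -/
def rho : AutO F →* Module.End F (ι → F) where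
  toFun g := Q.prj ∘ₗ ((g : V F ≃ₗ[F] V F) : V F →ₗ[F] V F) ∘ₗ Q.inc
  map_one' := by
    apply LinearMap.ext
    intro y
    exact Q.prj_inc y
  map_mul' g h := by
    apply LinearMap.ext
    intro y
    change Q.prj ((g : V F ≃ₗ[F] V F) ((h : V F ≃ₗ[F] V F) (Q.inc y))) =
      Q.prj ((g : V F ≃ₗ[F] V F) (Q.inc (Q.prj ((h : V F ≃ₗ[F] V F) (Q.inc y)))))
    rw [Q.key g g.2 _ (by rw [map_tr h.2, Q.tr_inc])]

theorem rho_apply (g : AutO F) (y : ι → F) : Q.rho g y = Q.prj ((g : V F ≃ₗ[F] V F) (Q.inc y)) := rfl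

/-- the form -/
def form : (ι → F) →ₗ[F] (ι → F) →ₗ[F] F :=
  LinearMap.mk₂ F (fun x y => bl (Q.inc x) (Q.inc y)) (fun x y z => by rw [map_add, bl_add'])
    (fun c x y => by rw [map_smul, bl_smul', smul_eq_mul]) (fun x y z => by rw [map_add, bl_add])
    (fun c x y => by rw [map_smul, bl_smul, smul_eq_mul])

theorem form_apply (x y : ι → F) : Q.form x y = bl (Q.inc x) (Q.inc y) := rfl

theorem form_rho (g : AutO F) (x y : ι → F) : Q.form (Q.rho g x) (Q.rho g y) = Q.form x y := by
  rw [form_apply, form_apply, rho_apply, rho_apply, Q.bl_key (by rw [map_tr g.2, Q.tr_inc])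
    (by rw [map_tr g.2, Q.tr_inc]), map_bl g.2]

theorem form_nondeg (x : ι → F) (h : ∀ y, Q.form x y = 0) : x = 0 := Q.nondeg x h

section irr

variable {K : Subgroup (V F ≃ₗ[F] V F)} (hK : K ≤ AutO F) [Finite F] {A : Matrix.SpecialLinearGroup (Fin 3) F} {r : ℕ}
  (h : Tor A r) (hs : slM F A ∈ K) (hns : ¬ Stb K (EE F))
include hK h hs hns

/-- **irreducibility** -/
theorem irr (W : Submodule F (ι → F)) (hW : ∀ g ∈ K, ∀ y ∈ W, Q.prj (g (Q.inc y)) ∈ W) : W = ⊥ ∨ W = ⊤ := by
  let U : Submodule F (V F) :=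
    { carrier := {x | tr x = 0 ∧ Q.prj x ∈ W}
      zero_mem' := ⟨by simp [tr], by rw [map_zero]; exact W.zero_mem⟩
      add_mem' := by
        rintro x y ⟨hx, hx'⟩ ⟨hy, hy'⟩
        exact ⟨by rw [tr_add, hx, hy, add_zero], by rw [map_add]; exact W.add_mem hx' hy'⟩
      smul_mem' := by
        rintro c x ⟨hx, hx'⟩
        exact ⟨by rw [tr_smul, hx, mul_zero], by rw [map_smul]; exact W.smul_mem _ hx'⟩ }
  have hU : ∀ x, x ∈ U ↔ tr x = 0 ∧ Q.prj x ∈ W := fun x => Iff.rfl
  have hUK : Stb K U := by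
    intro g hg x hx
    obtain ⟨hx1, hx2⟩ := (hU x).1 hx
    rw [hU]
    refine ⟨by rw [map_tr (hK hg), hx1], ?_⟩
    rw [← Q.key g (hK hg) x hx1]
    exact hW g hg _ hx2
  have hinc : ∀ y ∈ W, Q.inc y ∈ U := by
    intro y hy
    rw [hU]
    exact ⟨Q.tr_inc y, by rw [Q.prj_inc]; exact hy⟩
  rcases main_cases hK h hs hUK (fun x hx => hx.1) with h1 | h1 | h1
  · exact absurd h1 hns
  · right
    rw [eq_top_iff]
    intro y _
    have h2 := ((hU _).1 (h1 _ (Q.tr_inc y))).2
    rwa [Q.prj_inc] at h2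
  · left
    rw [eq_bot_iff]
    intro y hy
    rw [Submodule.mem_bot]
    obtain ⟨c, hc⟩ := h1 _ (hinc y hy)
    have h3 : y = c • Q.prj (G2S.l0 F) := by rw [← map_smul, ← hc, Q.prj_inc]
    by_contra hy0
    have hc0 : c ≠ 0 := by
      rintro rfl
      rw [zero_smul] at h3
      exact hy0 h3
    rcases Q.l0 with h4 | h4
    · rw [h4, smul_zero] at h3
      exact hy0 h3
    · -- `l0` spans an invariant line, and so the subalgebra is invariant
      apply hns
      have hl : G2S.l0 F ∈ U := by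
        have h5 := U.smul_mem c⁻¹ (hinc y hy)
        rwa [hc, smul_smul, inv_mul_cancel₀ hc0, one_smul] at h5
      intro g hg x hx
      have h5 : x = ((x 0 + x 7) / 2) • o + ((x 0 - x 7) / 2) • G2S.l0 F := by
        obtain ⟨k1, k2, k3, k4, k5, k6⟩ := mem_EE.1 hx
        apply ext8 <;> simp [k1, k2, k3, k4, k5, k6, o, G2S.l0] <;> field_simp <;> ring
      obtain ⟨d, hd⟩ := h1 _ (hUK g hg _ hl)
      rw [h5, map_add, map_smul, map_smul, map_o (hK hg), hd, smul_smul, mem_EE]
      simp [o, G2S.l0]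

/-- an endomorphism in the commutant with an eigenvalue is scalar -/
theorem scalar_of_eig {T : Module.End F (ι → F)} (hT : ∀ g ∈ K, ∀ y, T (Q.prj (g (Q.inc y))) = Q.prj (g (Q.inc (T y))))
    {c : F} {v : ι → F} (hv : v ≠ 0) (hc : T v = c • v) (y : ι → F) : T y = c • y := by
  let W : Submodule F (ι → F) := LinearMap.ker (T - c • LinearMap.id)
  have hW : ∀ y, y ∈ W ↔ T y = c • y := by
    intro y
    rw [LinearMap.mem_ker, LinearMap.sub_apply, sub_eq_zero]
    rfl
  have hWt : W = ⊤ := by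
    refine (Q.irr hK h hs hns W ?_).resolve_left ?_
    · intro g hg y hy
      rw [hW] at hy ⊢
      rw [hT g hg, hy, map_smul, map_smul, map_smul]
    · intro h0
      apply hv
      rw [← Submodule.mem_bot F, ← h0, hW]
      exact hc
  rw [← hW, hWt]
  exact Submodule.mem_top

/-- a polynomial in an element of the commutant with a kernel is zero -/
theorem eq_zero_of_ker {T : Module.End F (ι → F)}
    (hT : ∀ g ∈ K, ∀ y, T (Q.prj (g (Q.inc y))) = Q.prj (g (Q.inc (T y))))
    {v : ι → F} (hv : v ≠ 0) (hc : T v = 0) : T = 0 := by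
  apply LinearMap.ext
  intro y
  rw [Q.scalar_of_eig hK h hs hns hT (c := 0) hv (by rw [hc, zero_smul]), zero_smul]
  rfl

end irr

end SubQ

end Cfsg.Agent.H244.G2S
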